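import Cfsg.Agent.Lib.Perm.SimpleOrders.Checker

/-!
# The Sylow number and automizer that the tests leave open
-/

set_option autoImplicit false

namespace CfsgLib.Perm.SimpleOrders

open Cfsg CfsgLib.Char CfsgLib.Blocks Subgroup CfsgLib.Perm

variable {G : Type*} [Group G] [Finite G] [IsSimpleGroup G]

/-- A Sylow number `k` and automizer order `e` which the tests cannot exclude, with the orders of
normalizer and centralizer. -/
theorem exists_open_split (hG : ¬ IsMulCommutative G) {p m : ℕ} [Fact p.Prime] (hp5 : 5 ≤ p)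
    (hnm : Nat.card G = p * m) (hm' : ¬ p ∣ m) (hm1 : m ≠ 1) (hsmall : Nat.card G < 6400) :
    ∃ (P : Sylow p G) (e c : ℕ), Nat.card (P : Subgroup G) = p ∧ ¬ IsPGroup p G ∧
      Nat.card (Sylow p G) ∈ TwoGroups.SmallOrders.cands p 1 m ∧
      e < p ∧ 2 ≤ e ∧ (p - 1) % e = 0 ∧ e * c = m / Nat.card (Sylow p G) ∧
      Nat.card (normalizer ((P : Subgroup G) : Set G)) = p * (e * c) ∧
      Nat.card (centralizer ((P : Subgroup G) : Set G)) = p * c ∧
      (centralizer ((P : Subgroup G) : Set G)).relIndex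
        (normalizer ((P : Subgroup G) : Set G)) = e ∧
      killCentralizer (Nat.card G) p (Nat.card (Sylow p G)) e c = false ∧
      (Nat.card (Sylow p G) = p + 1 → (p - 1) % (2 * (m / Nat.card (Sylow p G))) = 0) := by
  have hp : p.Prime := Fact.out
  haveI := Fintype.ofFinite G
  have he' : Nat.card G = p ^ 1 * m := by rw [hnm, pow_one]
  have hmem := TwoGroups.SmallOrders.card_sylow_mem_cands hG he' one_ne_zero hm' hm1
  have hsq : ¬ p * p ∣ Nat.card G := fun hd => hm' (by
    rw [hnm] at hd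
    exact (Nat.mul_dvd_mul_iff_left hp.pos).1 hd)
  have hall : ∀ R : Sylow p G, Nat.card (R : Subgroup G) = p := fun R => by
    rw [sylow_card_eq R he' hm', pow_one]
  obtain ⟨P⟩ := (inferInstance : Nonempty (Sylow p G))
  generalize hkdef : Nat.card (Sylow p G) = k at hmem ⊢
  have hkm : k ∣ m := hkdef ▸ card_sylow_dvd_of_card_eq he'
  have hk0 : 0 < k := hkdef ▸ Nat.card_pos
  obtain ⟨q, hq, hqm⟩ := Nat.exists_prime_and_dvd hm1
  have hk1 : k ≠ 1 := fun e =>
    (card_sylow_mem he' one_ne_zero hq (fun e' => hm' (e' ▸ hqm)) hqm).2.2 (hkdef.trans e)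
  have hne : ¬ IsPGroup p G :=
    not_isPGroup_of_dvd hq (fun e => hm' (e ▸ hqm))
      (by rw [hnm]; exact dvd_mul_of_dvd_right hqm p)
  have hN : Nat.card (normalizer ((P : Subgroup G) : Set G)) = p * (m / k) := by
    have := card_normalizer_mul_card_sylow P
    rw [hkdef, hnm] at this
    refine Nat.eq_of_mul_eq_mul_right hk0 ?_
    rw [this, mul_assoc, Nat.div_mul_cancel hkm]
  obtain ⟨e, hee, hep, he1, hC⟩ := TwoGroups.SmallOrders.exists_card_centralizer P (hall P) hne hN
  have hp2 : p ≠ 2 := by omega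
  have he0 : 0 < e := Nat.pos_of_dvd_of_pos hep (by omega)
  have helt : e < p := by
    have := Nat.le_of_dvd (by omega) hep
    omega
  obtain ⟨c, hc⟩ := hee
  have hcc : Nat.card (centralizer ((P : Subgroup G) : Set G)) = p * c := by
    refine Nat.eq_of_mul_eq_mul_right he0 ?_
    rw [hC, hc]; ring
  have hrel : (centralizer ((P : Subgroup G) : Set G)).relIndex
      (normalizer ((P : Subgroup G) : Set G)) = e := by
    have h0 := index_mul_card ((centralizer ((P : Subgroup G) : Set G)).subgroupOf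
      (normalizer ((P : Subgroup G) : Set G)))
    rw [Nat.card_congr (subgroupOfEquivOfLe (centralizer_le_normalizer _)).toEquiv, hN, ← hC,
      mul_comm _ e] at h0
    exact Nat.eq_of_mul_eq_mul_right Nat.card_pos h0
  refine ⟨P, e, c, hall P, hne, hmem, helt, by omega, Nat.mod_eq_zero_of_dvd hep, hc.symm,
    by rw [hN, hc], hcc, hrel, ?_, fun hkp => Nat.mod_eq_zero_of_dvd ?_⟩
  swap
  · refine TwoGroups.SmallOrders.two_mul_dvd_of_card_sylow_eq_succ hG hp2 (e := m / k) ?_
      (hkdef.trans hkp)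
    rw [hnm, ← hkp, mul_comm k p, mul_assoc, Nat.mul_div_cancel' hkm]
  by_contra hcent
  simp only [Bool.not_eq_false, killCentralizer, Bool.or_eq_true, Bool.and_eq_true, beq_iff_eq,
    bne_iff_ne, List.any_eq_true] at hcent
  rcases hcent with (⟨q, -, ⟨⟨hqB, hqc⟩, hqp⟩, hq'⟩ | ⟨r, -, hrB, hr'⟩) | ⟨⟨he2, hc1⟩, hdih⟩
  · have hq := prime_of_primeB hqB
    haveI := Fact.mk hq
    obtain ⟨z, hz⟩ := exists_prime_orderOf_dvd_card' (G := centralizer ((P : Subgroup G) : Set G))
      q (by rw [hcc]; exact dvd_mul_of_dvd_right (Nat.dvd_of_mod_eq_zero hqc) p)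
    have hz' : orderOf (z : G) = q := by rw [Subgroup.orderOf_coe, hz]
    rcases hq' with hF | ⟨r, -, hrB, hr'⟩
    · exact false_of_checkFixed hG hq P hall hkdef hk1 z.2 hz' hF
    · exact false_of_checkDegree hG hq hqp (prime_of_primeB hrB) hp2 hsq P (hall P) hrel hsmall
        z.2 hz' hr'
  · exact false_of_noDegree hG (prime_of_primeB hrB) hp2 hsq P (hall P) hrel hsmall hr'
  · refine false_of_checkDihedral hp5 P (hall P) hne ?_ hdih
    rw [hN, hc, he2, hc1]; ring

end CfsgLib.Perm.SimpleOrders
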