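import Cfsg.Agent.Lib.Perm.SimpleOrders.GapEasy
import Cfsg.Agent.Lib.Perm.SimpleOrders.Split
import Cfsg.Agent.Lib.Perm.DihedralNormalizer

/-!
# Orders between 1093 and 3640: the cases needing characters
-/

set_option autoImplicit false

namespace CfsgLib.Perm.SimpleOrders

open Cfsg CfsgLib.Char CfsgLib.Blocks Subgroup CfsgLib.Perm
open scoped ComplexConjugate Classical

variable {G : Type*} [Group G] [Finite G] [IsSimpleGroup G]

omit [IsSimpleGroup G] in
theorem sum_degree_sq [Fintype (IrrCharacter G)] :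
    ∑ χ : IrrCharacter G, charDegree (χ : G → ℂ) ^ 2 = Nat.card G := by
  haveI := Fintype.ofFinite G
  rw [← Nat.cast_inj (R := ℂ), Nat.cast_sum, ← sum_sq_degree]
  exact Finset.sum_congr rfl fun ψ _ => by rw [apply_one_eq_charDegree, Nat.cast_pow]

/-- The integers available as signed degrees in a group of order 1512. -/
theorem signed_degree_1512 {d : ℕ} {s : ℤ} (hs : s = 1 ∨ s = -1) (hd : d ∣ 1512) (h1 : d ≠ 1)
    (hsq : d ^ 2 ≤ 1512) (hm : (7 : ℤ) ∣ s * d - 1) :
    s * d = 8 ∨ s * d = 36 ∨ s * d = -6 ∨ s * d = -27 := by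
  have h39 : d < 39 := by nlinarith
  have key : ∀ d : ℕ, d < 39 → d ∣ 1512 → d ≠ 1 → ∀ s ∈ [(1 : ℤ), -1], (s * (d : ℤ) - 1) % 7 = 0 →
      s * (d : ℤ) = 8 ∨ s * (d : ℤ) = 36 ∨ s * (d : ℤ) = -6 ∨ s * (d : ℤ) = -27 := by
    decide +kernel
  exact key d h39 hd h1 s (by rcases hs with rfl | rfl <;> simp) (Int.emod_eq_zero_of_dvd hm)

/-- A character of degree six is `-1` on elements of order seven and vanishes at an involution. -/
theorem false_1512 (hG : ¬ IsMulCommutative G) (h : Nat.card G = 1512) : False := by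
  classical
  haveI : Fact (Nat.Prime 7) := ⟨by norm_num⟩
  haveI := Fintype.ofFinite G
  haveI := Fintype.ofFinite (IrrCharacter G)
  obtain ⟨P, v, e, t, n, F⟩ := exists_frame_three_two hG (p := 7) (a := 3) (b := 3)
    (by rw [h]; norm_num) (by norm_num)
  have he : e ∣ 6 := ⟨t, by have := F.et; omega⟩
  have he2 := F.two
  have hcG := F.cardG
  have he6 : e ≤ 6 := Nat.le_of_dvd (by norm_num) he
  have he' : e = 6 := by interval_cases e <;> omega
  subst he'
  have ht : t = 1 := by have := F.et; omega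
  subst ht
  obtain ⟨X, Y, εX, ε, hdisj, hTX, hT1, hXc, hYc, hX, hε, hY, -, hrel, hYsum, -⟩ :=
    FewSylow.exists_values F
  obtain ⟨θ, hYθ⟩ := Finset.card_eq_one.1 hYc
  have hθ : θ ∈ Y := by rw [hYθ]; exact Finset.mem_singleton_self θ
  have hθX : θ ∉ X := fun h' => Finset.disjoint_left.1 hdisj h' hθ
  set S := insert θ (X.erase (trivChar G)) with hSdef
  let s : IrrCharacter G → ℤ := fun χ => if χ = θ then -ε else εX χ
  let d : IrrCharacter G → ℕ := fun χ => charDegree (χ : G → ℂ)
  have hne1 : ∀ χ, χ ≠ trivChar G → d χ ≠ 1 := fun χ hne hd => hne (FewSylow.eq_trivChar F.perf χ hd)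
  have hθT : θ ≠ trivChar G := fun e' => hθX (e' ▸ hTX)
  have hTS : trivChar G ∉ S := by simp [hSdef, hθT.symm]
  have hθE : θ ∉ X.erase (trivChar G) := fun h' => hθX (Finset.mem_of_mem_erase h')
  have hSs : ∀ χ ∈ S, (s χ = 1 ∨ s χ = -1) ∧ (7 : ℤ) ∣ s χ * d χ - 1 ∧ χ ≠ trivChar G := by
    intro χ hχ
    rcases Finset.mem_insert.1 hχ with rfl | hχ
    · simp only [s, if_pos]
      refine ⟨by rcases hε with e' | e' <;> simp [e'], ?_, hθT⟩
      have h' := Int.modEq_iff_dvd.1 (hY χ hθ)
      obtain ⟨j, hj⟩ := h'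
      push_cast at hj
      rcases hε with e' | e' <;> rw [e'] at hj ⊢
      · exact ⟨j - 1, by simp only [d]; linarith⟩
      · exact ⟨-j - 1, by simp only [d]; linarith⟩
    · obtain ⟨hne, hχX⟩ := Finset.mem_erase.1 hχ
      have hχθ : χ ≠ θ := fun e' => hθX (e' ▸ hχX)
      simp only [s, if_neg hχθ]
      obtain ⟨hs, hm, -⟩ := hX χ hχX
      refine ⟨hs, ?_, hne⟩
      obtain ⟨j, hj⟩ := Int.modEq_iff_dvd.1 hm
      push_cast at hj
      rcases hs with e' | e' <;> rw [e'] at hj ⊢
      · exact ⟨-j, by simp only [d]; linarith⟩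
      · exact ⟨j, by simp only [d]; linarith⟩
  have hsum : ∑ χ ∈ S, s χ * (d χ : ℤ) = -1 := by
    have hr := hrel θ hθ 1 (by rw [orderOf_one]; norm_num)
    simp only [apply_one_eq_charDegree] at hr
    have hr' : ε * (d θ : ℤ) = ∑ χ ∈ X, εX χ * (d χ : ℤ) := by exact_mod_cast hr
    rw [← Finset.add_sum_erase _ _ hTX, hT1] at hr'
    have hT : d (trivChar G) = 1 := by simp [d, charDegree]
    rw [hT] at hr'
    rw [hSdef, Finset.sum_insert hθE, Finset.sum_congr rfl (g := fun χ => εX χ * (d χ : ℤ))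
      (fun χ hχ => by
        simp only [s, if_neg (fun e' : χ = θ => hθE (e' ▸ hχ))])]
    simp only [s, if_pos]
    push_cast at hr'
    linarith
  have hScard : S.card = 6 := by
    rw [hSdef, Finset.card_insert_of_notMem hθE, Finset.card_erase_of_mem hTX, hXc]
  have hsq : 1 + ∑ χ ∈ S, d χ ^ 2 ≤ 1512 := by
    have h2 := Finset.sum_le_sum_of_subset (f := fun χ => d χ ^ 2)
      (Finset.subset_univ (insert (trivChar G) S))
    rw [Finset.sum_insert hTS] at h2
    have h3 : ∑ χ : IrrCharacter G, d χ ^ 2 = 1512 := h ▸ sum_degree_sq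
    have hT : d (trivChar G) = 1 := by simp [d, charDegree]
    rw [h3, hT] at h2
    simpa using h2
  have hsq1 : ∀ χ ∈ S, d χ ^ 2 ≤ 1512 := fun χ hχ => by
    have := Finset.single_le_sum (f := fun ψ => d ψ ^ 2) (fun _ _ => Nat.zero_le _) hχ
    omega
  have hval : ∀ χ ∈ S, s χ * (d χ : ℤ) = 8 ∨ s χ * (d χ : ℤ) = 36 ∨ s χ * (d χ : ℤ) = -6 ∨
      s χ * (d χ : ℤ) = -27 := fun χ hχ =>
    signed_degree_1512 (hSs χ hχ).1 (h ▸ charDegree_dvd_card χ) (hne1 χ (hSs χ hχ).2.2)
      (hsq1 χ hχ) (hSs χ hχ).2.1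
  obtain ⟨χ, hχS, hχ6⟩ : ∃ χ ∈ S, s χ * (d χ : ℤ) = -6 := by
    by_contra hno
    push Not at hno
    have hd2 : ∀ χ ∈ S, ((d χ : ℤ)) ^ 2 = (s χ * (d χ : ℤ)) ^ 2 := fun χ hχ => by
      rcases (hSs χ hχ).1 with e' | e' <;> rw [e'] <;> ring
    -- each term is at least `8 - 35 δ` and its square at least `64 + 665 δ`
    have hb : ∀ χ ∈ S, (19 : ℤ) * (s χ * (d χ : ℤ)) + (d χ : ℤ) ^ 2 ≥ 216 := fun χ hχ => by
      rw [hd2 χ hχ]
      rcases hval χ hχ with e' | e' | e' | e'
      · rw [e']; norm_num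
      · rw [e']; norm_num
      · exact absurd e' (hno χ hχ)
      · rw [e']; norm_num
    have h2 : ((∑ χ ∈ S, d χ ^ 2 : ℕ) : ℤ) ≤ 1511 := by
      have : ∑ χ ∈ S, d χ ^ 2 ≤ 1511 := by omega
      exact_mod_cast this
    by_cases htwo : (S.filter fun χ => s χ * (d χ : ℤ) = -27).card ≤ 1
    · have hlow : ∀ χ ∈ S, (8 : ℤ) - (if s χ * (d χ : ℤ) = -27 then 35 else 0) ≤ s χ * (d χ : ℤ) :=
        fun χ hχ => by
          rcases hval χ hχ with e' | e' | e' | e' <;> rw [e'] <;> norm_num
          exact absurd e' (hno χ hχ)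
      have h3 := Finset.sum_le_sum hlow
      rw [hsum, Finset.sum_sub_distrib, Finset.sum_const, hScard, ← Finset.sum_filter,
        Finset.sum_const, nsmul_eq_mul, nsmul_eq_mul] at h3
      have : ((S.filter fun χ => s χ * (d χ : ℤ) = -27).card : ℤ) ≤ 1 := by exact_mod_cast htwo
      norm_num at h3
      linarith
    · have hlow : ∀ χ ∈ S, (64 : ℤ) + (if s χ * (d χ : ℤ) = -27 then 665 else 0) ≤ (d χ : ℤ) ^ 2 :=
        fun χ hχ => by
          rw [hd2 χ hχ]
          rcases hval χ hχ with e' | e' | e' | e' <;> rw [e'] <;> norm_num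
          exact absurd e' (hno χ hχ)
      have h3 := Finset.sum_le_sum hlow
      rw [Finset.sum_add_distrib, Finset.sum_const, hScard, ← Finset.sum_filter,
        Finset.sum_const, nsmul_eq_mul, nsmul_eq_mul] at h3
      have : (2 : ℤ) ≤ ((S.filter fun χ => s χ * (d χ : ℤ) = -27).card : ℤ) := by
        exact_mod_cast (show 2 ≤ (S.filter fun χ => s χ * (d χ : ℤ) = -27).card by omega)
      push_cast at h2
      norm_num at h3
      linarith
  have hd6 : d χ = 6 := by
    rcases (hSs χ hχS).1 with e' | e' <;> rw [e'] at hχ6 <;> omega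
  have hsn : s χ = -1 := by
    rcases (hSs χ hχS).1 with e' | e'
    · rw [e', hd6] at hχ6; norm_num at hχ6
    · exact e'
  have hPs : ∑ x ∈ FewSylow.star (P : Subgroup G), (χ : G → ℂ) x = -6 := by
    rcases Finset.mem_insert.1 hχS with rfl | hχE
    · have : ε = 1 := by simp only [s, if_pos] at hsn; omega
      rw [hYsum χ hθ, this]; norm_num
    · have hχθ : χ ≠ θ := fun e' => hθE (e' ▸ hχE)
      simp only [s, if_neg hχθ] at hsn
      rw [Finset.sum_congr rfl (fun x hx => (hX χ (Finset.mem_of_mem_erase hχE)).2.2 x hx),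
        Finset.sum_const, F.card_Pstar, hsn]
      norm_num
  -- no fixed vector on the Sylow subgroup, so the values outside it vanish
  obtain ⟨k, hk⟩ := CharAverage.exists_sum_eq (P : Subgroup G) (IsIrr.isCharacter χ.2)
  rw [FewSylow.sum_subgroup, F.card, hPs, apply_one_eq_charDegree] at hk
  have hd6' : charDegree (χ : G → ℂ) = 6 := hd6
  rw [hd6'] at hk
  norm_num at hk
  set u := v ^ 3 with hu
  have huo : orderOf u = 2 := by rw [hu, orderOf_pow' _ (by norm_num), F.ord]; norm_num
  have huS : u ∈ FewSylow.star (zpowers v) := FewSylow.mem_star.2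
    ⟨fun e' => by rw [e', orderOf_one] at huo; norm_num at huo, pow_mem (mem_zpowers v) 3⟩
  have hbd := CharAverage.norm_sum_le (P : Subgroup G) (IsIrr.isCharacter χ.2)
    (F.zpowers_le_normalizer (FewSylow.mem_star.1 huS).2)
  rw [F.sum_coset (fun g x => IsIrr.isClassFunction χ.2 g x) (FewSylow.mem_star.1 huS).2
    (FewSylow.mem_star.1 huS).1, FewSylow.sum_subgroup, hPs, apply_one_eq_charDegree, hd6',
    norm_mul] at hbd
  norm_num at hbd
  have hu0 : (χ : G → ℂ) u = ((0 : ℤ) : ℂ) := by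
    rw [Int.cast_zero, ← norm_eq_zero]
    have := norm_nonneg ((χ : G → ℂ) u)
    linarith
  obtain ⟨j, hj⟩ := ThreePrimeOrder.four_dvd_degree_sub F.perf χ
    (by rw [← pow_two, ← huo, pow_orderOf_eq_one]) hu0
  rw [hd6'] at hj
  omega

/-- Too many pairs of involutions with product of order five. -/
theorem false_2160 (hG : ¬ IsMulCommutative G) (h : Nat.card G = 2160) : False := by
  classical
  haveI : Fact (Nat.Prime 5) := ⟨by norm_num⟩
  haveI : Fact (Nat.Prime 2) := ⟨Nat.prime_two⟩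
  obtain ⟨P, v, e, t, n, F⟩ := exists_frame_three_two hG (p := 5) (a := 3) (b := 4)
    (by rw [h]; norm_num) (by norm_num)
  have hed : e ∣ 4 := ⟨t, by have := F.et; omega⟩
  have he2 := F.two
  have hcG := F.cardG
  have he4 : e ≤ 4 := Nat.le_of_dvd (by norm_num) hed
  have he' : e = 2 := by interval_cases e <;> omega
  subst he'
  have hsyl : Nat.card (Sylow 5 G) = 216 := by have := F.syl; omega
  obtain ⟨x, w, u, hu, hx1, hx2, hd1, hd2, hm, heq, hv, hall⟩ :=
    exists_degree_of_card_normalizer_two_mul' (le_refl 5) P F.card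
      (not_isPGroup_of_dvd Nat.prime_two (by norm_num) (by rw [h]; norm_num))
      (F.cardN.trans (by norm_num))
  set C := Nat.card (centralizer ({u} : Set G)) with hC
  have h16 : 16 ∣ C := two_part_dvd_card_centralizer (k := 4) (m := 135) (by norm_num)
    (by rw [h]; norm_num) (by norm_num) hall
  have hC48 : C = 48 := by
    rw [h] at hd1 hd2 heq
    have hd10 : x.natAbs ≠ 0 := fun e' => by rw [e'] at hd1; norm_num at hd1
    have key : ∀ a ∈ Nat.divisors 2160, ((a % 5 = 1 ∧ 2 ≤ a → ¬ (a + 1) ∣ 2160) ∧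
        (a % 5 = 4 ∧ 2 ≤ a → (a - 1) ∣ 2160 → a = 4 ∨ a = 9)) := by decide +kernel
    obtain ⟨j, hj⟩ := hm
    push_cast at hj
    obtain ⟨kp, kn⟩ := key _ (Nat.mem_divisors.2 ⟨hd1, by norm_num⟩)
    rcases Int.natAbs_eq x with e' | e'
    · exact absurd (by rwa [show x.natAbs + 1 = (x + 1).natAbs by omega]) (kp (by omega))
    rcases kn (by omega) (by rwa [show x.natAbs - 1 = (x + 1).natAbs by omega]) with a | a <;>
      rw [a] at e' hv <;> rw [e'] at heq <;> push_cast at heq
    · -- degree four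
      have hb : w ≤ 4 ∧ -4 ≤ w := by omega
      obtain ⟨hb1, hb2⟩ := hb
      obtain ⟨l, hl⟩ := h16
      have hC0 : 0 < C := Nat.card_pos
      have hl0 : 1 ≤ l := by omega
      have hl3 : l ≤ 3 := by
        have hsq : (C : ℤ) ^ 2 ≤ 48 ^ 2 := by nlinarith
        have : (C : ℤ) ≤ 48 := by nlinarith
        omega
      rw [hl] at heq ⊢
      interval_cases l <;> first | rfl | (interval_cases w <;> norm_num at heq)
    · exfalso
      have hb : w ≤ 9 ∧ -9 ≤ w := by omega
      obtain ⟨hb1, hb2⟩ := hb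
      obtain ⟨l, hl⟩ := h16
      have hC0 : 0 < C := Nat.card_pos
      have hl0 : 1 ≤ l := by omega
      have hl3 : l ≤ 3 := by
        have hsq : (C : ℤ) ^ 2 ≤ 48 ^ 2 := by nlinarith
        have : (C : ℤ) ≤ 48 := by nlinarith
        omega
      rw [hl] at heq
      interval_cases l <;> interval_cases w <;> norm_num at heq
  -- the involutions
  have hI : Nat.card {y : G // orderOf y = 2} = 45 := by
    have h1 := card_isConj_mul_card_centralizer u
    rw [← hC, hC48, h] at h1
    have h2 : Nat.card {y : G // orderOf y = 2} = Nat.card {y : G // IsConj u y} :=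
      Nat.card_congr (Equiv.subtypeEquivRight fun y => ⟨hall y, fun hy => by
        obtain ⟨g, rfl⟩ := isConj_iff.1 hy
        rw [orderOf_conj_eq, hu]⟩)
    omega
  have hR : ∀ R : Sylow 5 G, ∀ g ∈ normalizer ((R : Subgroup G) : Set G), g ∉ (R : Subgroup G) →
      orderOf g = 2 ∧ ∀ a ∈ (R : Subgroup G), g * a * g⁻¹ = a⁻¹ := by
    intro R g hg hg'
    haveI := Fintype.ofFinite G
    have hRc : Nat.card (R : Subgroup G) = 5 := (card_sylow_congr R P).trans F.card
    have hNc : Nat.card (normalizer ((R : Subgroup G) : Set G)) = 10 := by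
      have := card_normalizer_mul_card_sylow R
      rw [hsyl, h] at this
      omega
    have hself : CfsgLib.CA.SelfCent (R : Subgroup G) := by
      obtain ⟨c, hc⟩ := MulAction.exists_smul_eq G P R
      intro a ha ha1
      rw [← hc, Sylow.coe_subgroup_smul, mem_smul_pointwise_iff_exists] at ha
      obtain ⟨b, hb, rfl⟩ := ha
      have hb1 : b ≠ 1 := fun e' => ha1 (by rw [e']; simp)
      rw [← hc, Sylow.coe_subgroup_smul, ← F.cent b hb hb1]
      ext y
      simp only [mem_centralizer_singleton_iff, mem_smul_pointwise_iff_exists]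
      constructor
      · intro hy
        refine ⟨c⁻¹ * y * c, ?_, by show c * (c⁻¹ * y * c) * c⁻¹ = y; group⟩
        calc c⁻¹ * y * c * b = c⁻¹ * (y * (c * b * c⁻¹)) * c := by group
          _ = c⁻¹ * ((c * b * c⁻¹) * y) * c := by rw [show y * (c * b * c⁻¹) = (c * b * c⁻¹) * y from hy]
          _ = b * (c⁻¹ * y * c) := by group
      · rintro ⟨z, hz, rfl⟩
        show c * z * c⁻¹ * (c * b * c⁻¹) = c * b * c⁻¹ * (c * z * c⁻¹)
        calc c * z * c⁻¹ * (c * b * c⁻¹) = c * (z * b) * c⁻¹ := by group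
          _ = c * (b * z) * c⁻¹ := by rw [hz]
          _ = _ := by group
    have hind : (R : Subgroup G).relIndex (normalizer ((R : Subgroup G) : Set G)) = 2 := by
      have h0 := index_mul_card ((R : Subgroup G).subgroupOf (normalizer ((R : Subgroup G) : Set G)))
      rw [Nat.card_congr (subgroupOfEquivOfLe le_normalizer).toEquiv, hNc, hRc] at h0
      show ((R : Subgroup G).subgroupOf (normalizer ((R : Subgroup G) : Set G))).index = 2
      omega
    obtain ⟨h1, h2⟩ := SelfCentDegree.sq_eq_one_and_inverts hself hind hg hg'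
    exact ⟨orderOf_eq_prime (by rw [pow_two, h1]) (fun e' => hg' (e' ▸ one_mem _)), h2⟩
  let T := Σ R : Sylow 5 G, {a : G // a ∈ (R : Subgroup G) ∧ a ≠ 1} ×
    {g : G // g ∈ normalizer ((R : Subgroup G) : Set G) ∧ g ∉ (R : Subgroup G)}
  have hmul : ∀ q : T, (q.2.2 : G) * (q.2.1 : G) ∈ normalizer ((q.1 : Subgroup G) : Set G) ∧
      (q.2.2 : G) * (q.2.1 : G) ∉ (q.1 : Subgroup G) := fun q =>
    ⟨mul_mem q.2.2.2.1 (le_normalizer q.2.1.2.1),
      fun h' => q.2.2.2.2 ((Subgroup.mul_mem_cancel_right _ q.2.1.2.1).1 h')⟩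
  let f : T → {y : G // orderOf y = 2} × {y : G // orderOf y = 2} := fun q =>
    (⟨q.2.2, (hR q.1 _ q.2.2.2.1 q.2.2.2.2).1⟩, ⟨_, (hR q.1 _ (hmul q).1 (hmul q).2).1⟩)
  have hf : Function.Injective f := by
    rintro ⟨R, ⟨a, haR, ha1⟩, ⟨g, hg⟩⟩ ⟨R', ⟨a', haR', ha1'⟩, ⟨g', hg'⟩⟩ he
    simp only [f, Prod.mk.injEq, Subtype.mk.injEq] at he
    obtain ⟨rfl, he2⟩ := he
    obtain rfl := mul_left_cancel he2
    have e5 : ∀ R : Sylow 5 G, a ∈ (R : Subgroup G) → (R : Subgroup G) = zpowers a := fun R hR' =>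
      (zpowers_eq_of_prime_card (by norm_num) ((card_sylow_congr R P).trans F.card) hR' ha1).symm
    obtain rfl : R = R' := Sylow.ext ((e5 R haR).trans (e5 R' haR').symm)
    rfl
  have hcardT : Nat.card T = 216 * (4 * 5) := by
    haveI := Fintype.ofFinite (Sylow 5 G)
    rw [Nat.card_sigma, Finset.sum_congr rfl (g := fun _ => 4 * 5), Finset.sum_const,
      Finset.card_univ, ← Nat.card_eq_fintype_card, hsyl, smul_eq_mul]
    intro R _
    have hRc : Nat.card (R : Subgroup G) = 5 := (card_sylow_congr R P).trans F.card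
    have hNc : Nat.card (normalizer ((R : Subgroup G) : Set G)) = 10 := by
      have := card_normalizer_mul_card_sylow R
      rw [hsyl, h] at this
      omega
    rw [Nat.card_prod]
    congr 1
    · have h1 := Nat.card_congr (Equiv.subtypeSubtypeEquivSubtypeInter
        (fun a : G => a ∈ (R : Subgroup G)) (fun a => a ≠ 1))
      rw [← h1]
      have h2 : Nat.card {a : (R : Subgroup G) // (a : G) ≠ 1} + 1 = 5 := by
        haveI := Fintype.ofFinite (R : Subgroup G)
        rw [Nat.card_eq_fintype_card, Fintype.card_subtype]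
        rw [show (Finset.univ.filter fun a : (R : Subgroup G) => (a : G) ≠ 1) =
          Finset.univ.erase 1 by ext a; simp, Finset.card_erase_add_one (Finset.mem_univ _),
          Finset.card_univ, ← Nat.card_eq_fintype_card, hRc]
      change Nat.card {a : (R : Subgroup G) // (a : G) ≠ 1} = 4
      omega
    · set N := normalizer ((R : Subgroup G) : Set G) with hN
      have h1 := Nat.card_congr (Equiv.sumCompl fun g : N => (g : G) ∈ (R : Subgroup G))
      rw [Nat.card_sum, hNc] at h1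
      have h2 : Nat.card {g : N // (g : G) ∈ (R : Subgroup G)} = 5 := by
        exact (Nat.card_congr
          (subgroupOfEquivOfLe (le_normalizer (H := (R : Subgroup G)))).toEquiv).trans hRc
      have h3 := Nat.card_congr (Equiv.subtypeSubtypeEquivSubtypeInter
        (fun g : G => g ∈ N) (fun g => g ∉ (R : Subgroup G)))
      rw [← h3]
      change Nat.card {g : N // (g : G) ∉ (R : Subgroup G)} = 5
      omega
  have := Nat.card_le_card_of_injective f hf
  rw [hcardT, Nat.card_prod, hI] at this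
  norm_num at this

end CfsgLib.Perm.SimpleOrders
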