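import Cfsg.Agent.Lib.Perm.SimpleOrders.GapHard
import Cfsg.Agent.Lib.Perm.SimpleOrders.Split
import Cfsg.Agent.Lib.Perm.DihedralNormalizer

/-!
# The orders 1680, 3120 and 3360
-/

set_option autoImplicit false

namespace CfsgLib.Perm.SimpleOrders

open Cfsg CfsgLib.Char CfsgLib.Blocks Subgroup CfsgLib.Perm
open scoped ComplexConjugate Classical

variable {G : Type*} [Group G] [Finite G] [IsSimpleGroup G]

theorem false_1680 (hG : ¬ IsMulCommutative G) (h : Nat.card G = 1680) : False := by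
  haveI : Fact (Nat.Prime 7) := ⟨by norm_num⟩
  haveI : Fact (Nat.Prime 5) := ⟨by norm_num⟩
  haveI : Fact (Nat.Prime 3) := ⟨Nat.prime_three⟩
  haveI : Fact (Nat.Prime 2) := ⟨Nat.prime_two⟩
  obtain ⟨P, e, c, hP, hne, hmem, helt, he2, hep, hec, hN, hC, -, hkill, hfirst⟩ :=
    exists_open_split hG (p := 7) (m := 240) (by norm_num) (by rw [h]) (by norm_num) (by norm_num)
      (by rw [h]; norm_num)
  rw [h] at hkill
  generalize Nat.card (Sylow 7 G) = k at hmem hec hkill hfirst
  have key : ∀ k ∈ TwoGroups.SmallOrders.cands 7 1 240, ∀ e < 7, 2 ≤ e → (7 - 1) % e = 0 →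
      (240 / k) % e = 0 → (k = 7 + 1 → (7 - 1) % (2 * (240 / k)) = 0) →
      killCentralizer 1680 7 k e (240 / k / e) = false → e * (240 / k / e) = 2 := by
    decide +kernel
  have hcE : 240 / k / e = c := by rw [← hec, Nat.mul_div_cancel_left _ (by omega)]
  have hdih : e * c = 2 := hcE ▸ key k hmem e helt he2 hep (by rw [← hec, Nat.mul_mod_right])
    hfirst (hcE.symm ▸ hkill)
  rw [hdih] at hN
  obtain ⟨x, w, u, hu, hx1, hx2, hd1, hd2, hm, heq, hv, hall⟩ :=
    exists_degree_of_card_normalizer_two_mul' (by norm_num) P hP hne (hN.trans (by norm_num))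
  set C := Nat.card (centralizer ({u} : Set G)) with hCdef
  have h16 : 16 ∣ C := two_part_dvd_card_centralizer (k := 4) (m := 105) (by norm_num)
    (by rw [h]; norm_num) (by norm_num) hall
  have hC16 : C = 16 := by
    rw [h] at hd1 hd2 heq
    have hd10 : x.natAbs ≠ 0 := fun e' => by rw [e'] at hd1; norm_num at hd1
    have key : ∀ a ∈ Nat.divisors 1680,
        ((a % 7 = 1 ∧ 2 ≤ a → (a + 1) ∣ 1680 → a = 15) ∧
        (a % 7 = 6 ∧ 2 ≤ a → (a - 1) ∣ 1680 → a = 6)) := by decide +kernel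
    obtain ⟨j, hj⟩ := hm
    push_cast at hj
    obtain ⟨kp, kn⟩ := key _ (Nat.mem_divisors.2 ⟨hd1, by norm_num⟩)
    obtain ⟨l, hl⟩ := h16
    have hC0 : 0 < C := Nat.card_pos
    have hl0 : 1 ≤ l := by omega
    rcases Int.natAbs_eq x with e' | e'
    · have a := kp (by omega) (by rwa [show x.natAbs + 1 = (x + 1).natAbs by omega])
      rw [a] at e' hv
      rw [e'] at heq
      push_cast at heq
      have hb : w ≤ 15 ∧ -15 ≤ w := by omega
      obtain ⟨hb1, hb2⟩ := hb
      have hl3 : l ≤ 1 := by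
        have hsq : (C : ℤ) ^ 2 ≤ 30 ^ 2 := by nlinarith
        have : (C : ℤ) ≤ 30 := by nlinarith
        omega
      omega
    · have a := kn (by omega) (by rwa [show x.natAbs - 1 = (x + 1).natAbs by omega])
      rw [a] at e' hv
      rw [e'] at heq
      push_cast at heq
      have hb : w ≤ 6 ∧ -6 ≤ w := by omega
      obtain ⟨hb1, hb2⟩ := hb
      have hl3 : l ≤ 3 := by
        have hsq : (C : ℤ) ^ 2 ≤ 48 ^ 2 := by nlinarith
        have : (C : ℤ) ≤ 48 := by nlinarith
        omega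
      rw [hl] at heq
      interval_cases l <;> interval_cases w <;> norm_num at heq
  obtain ⟨P5, e5, c5, hP5, -, hmem5, helt5, he25, hep5, hec5, -, hC5, -, hkill5, hfirst5⟩ :=
    exists_open_split hG (p := 5) (m := 336) (by norm_num) (by rw [h]) (by norm_num) (by norm_num)
      (by rw [h]; norm_num)
  rw [h] at hkill5
  have hn21 := @Cfsg.Agent.S1010.result G _ _
  generalize Nat.card (Sylow 5 G) = k5 at hmem5 hec5 hkill5 hfirst5 hn21
  have key5 : ∀ k ∈ TwoGroups.SmallOrders.cands 5 1 336, ∀ e < 5, 2 ≤ e → (5 - 1) % e = 0 →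
      (336 / k) % e = 0 → (k = 5 + 1 → (5 - 1) % (2 * (336 / k)) = 0) → k ≠ 21 →
      killCentralizer 1680 5 k e (336 / k / e) = false → 336 / k / e = 3 := by
    decide +kernel
  have hcE5 : 336 / k5 / e5 = c5 := by rw [← hec5, Nat.mul_div_cancel_left _ (by omega)]
  have hc3 : c5 = 3 := hcE5 ▸ key5 k5 hmem5 e5 helt5 he25 hep5 (by rw [← hec5, Nat.mul_mod_right])
    hfirst5 hn21 (hcE5.symm ▸ hkill5)
  rw [hc3] at hC5
  obtain ⟨z, hz⟩ := exists_prime_orderOf_dvd_card' (G := centralizer ((P5 : Subgroup G) : Set G)) 3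
    (by rw [hC5]; norm_num)
  have hzo : orderOf (z : G) = 3 := by rw [Subgroup.orderOf_coe, hz]
  have h3' : Nat.card G = 3 ^ 1 * 560 := by rw [h]; norm_num
  obtain ⟨R, hRz⟩ := exists_mem_sylow_of_orderOf (p := 3) (k := 1) (g := (z : G)) (by rw [hzo]; rfl)
  have hR : Nat.card (R : Subgroup G) = 3 := by rw [sylow_card_eq R h3' (by norm_num), pow_one]
  have hz1 : (z : G) ≠ 1 := fun e' => by rw [e', orderOf_one] at hzo; norm_num at hzo
  have hCR : centralizer ((R : Subgroup G) : Set G) = centralizer ({(z : G)} : Set G) :=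
    (centralizer_eq_of_prime_card Nat.prime_three hR hRz hz1).symm
  have hmem3 := TwoGroups.SmallOrders.card_sylow_mem_cands hG h3' one_ne_zero (by norm_num)
    (by norm_num)
  have hn3 : Nat.card (Sylow 3 G) ∣ 560 := card_sylow_dvd_of_card_eq h3'
  have hmod3 := card_sylow_modEq_one 3 G
  obtain ⟨a, ha⟩ : ∃ a, Nat.card (normalizer ((R : Subgroup G) : Set G)) = 3 * a :=
    by
    have hd := card_dvd_of_le (le_normalizer (H := (R : Subgroup G)))
    rw [hR] at hd
    exact hd
  obtain ⟨e3, -, he3, he31, hC3⟩ := TwoGroups.SmallOrders.exists_card_centralizer R hR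
    (not_isPGroup_of_dvd Nat.prime_two (by norm_num) (by rw [h]; norm_num)) ha
  have he32 : e3 = 2 := ((Nat.dvd_prime Nat.prime_two).1 he3).resolve_left he31
  have h5 : 5 ∣ Nat.card (centralizer ((R : Subgroup G) : Set G)) := by
    have hle : (P5 : Subgroup G) ≤ centralizer ({(z : G)} : Set G) := fun y hy =>
      mem_centralizer_singleton_iff.2 ((mem_centralizer_iff.1 z.2) y hy)
    have hd := card_dvd_of_le hle
    rwa [hP5, ← hCR] at hd
  have h2 : ¬ 2 ∣ Nat.card (centralizer ((R : Subgroup G) : Set G)) := by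
    intro h2
    obtain ⟨s, hs⟩ := exists_prime_orderOf_dvd_card' (G := centralizer ((R : Subgroup G) : Set G)) 2 h2
    obtain ⟨g, hg⟩ := isConj_iff.1 (hall (s : G) (by rw [Subgroup.orderOf_coe, hs]))
    have hmem : g⁻¹ * (z : G) * g ∈ centralizer ({u} : Set G) := by
      rw [mem_centralizer_singleton_iff]
      have hcs : (z : G) * s = s * z := (mem_centralizer_iff.1 s.2) z hRz
      rw [← hg] at hcs
      calc g⁻¹ * (z : G) * g * u = g⁻¹ * ((z : G) * (g * u * g⁻¹)) * g := by group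
        _ = g⁻¹ * ((g * u * g⁻¹) * z) * g := by rw [hcs]
        _ = _ := by group
    have hd := Subgroup.orderOf_dvd_natCard _ hmem
    rw [← hCdef, hC16, show g⁻¹ * (z : G) * g = g⁻¹ * (z : G) * g⁻¹⁻¹ by group, orderOf_conj_eq,
      hzo] at hd
    norm_num at hd
  have hprod := card_normalizer_mul_card_sylow R
  rw [h] at hprod
  rw [he32] at hC3
  have key3 : ∀ k ∈ TwoGroups.SmallOrders.cands 3 1 560, ∀ d < 2, (840 / k) % 5 = 0 →
      (840 / k) % 2 = 0 ∨ 840 % k ≠ 0 := by decide +kernel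
  have hCk : Nat.card (centralizer ((R : Subgroup G) : Set G)) * Nat.card (Sylow 3 G) = 840 := by
    rw [ha, ← hC3] at hprod
    linarith
  have hdiv : 840 / Nat.card (Sylow 3 G) = Nat.card (centralizer ((R : Subgroup G) : Set G)) := by
    rw [← hCk, Nat.mul_div_cancel _ Nat.card_pos]
  rcases key3 _ hmem3 0 (by norm_num) (by rw [hdiv]; omega) with e' | e'
  · rw [hdiv] at e'; omega
  · exact e' (by rw [← hCk]; exact Nat.mul_mod_left _ _)

/-- A self-centralizing subgroup of order 39 inverted by an involution. -/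
theorem false_3120 (hG : ¬ IsMulCommutative G) (h : Nat.card G = 3120) : False := by
  haveI : Fact (Nat.Prime 13) := ⟨by norm_num⟩
  haveI : Fact (Nat.Prime 3) := ⟨Nat.prime_three⟩
  haveI := Fintype.ofFinite G
  obtain ⟨P, e, c, hP, hne, hmem, helt, he2, hep, hec, hN, hC, hrel, hkill, hfirst⟩ :=
    exists_open_split hG (p := 13) (m := 240) (by norm_num) (by rw [h]) (by norm_num) (by norm_num)
      (by rw [h]; norm_num)
  rw [h] at hkill
  generalize Nat.card (Sylow 13 G) = k at hmem hec hkill hfirst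
  have key : ∀ k ∈ TwoGroups.SmallOrders.cands 13 1 240, ∀ e < 13, 2 ≤ e → (13 - 1) % e = 0 →
      (240 / k) % e = 0 → (k = 13 + 1 → (13 - 1) % (2 * (240 / k)) = 0) →
      killCentralizer 3120 13 k e (240 / k / e) = false → e = 2 ∧ 240 / k / e = 3 := by
    decide +kernel
  have hcE : 240 / k / e = c := by rw [← hec, Nat.mul_div_cancel_left _ (by omega)]
  obtain ⟨rfl, hc⟩ := key k hmem e helt he2 hep (by rw [← hec, Nat.mul_mod_right])
    hfirst (hcE.symm ▸ hkill)
  rw [hcE] at hc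
  subst hc
  set A := centralizer ((P : Subgroup G) : Set G) with hA
  have hAc : Nat.card A = 39 := hC
  have hPA : (P : Subgroup G) ≤ A := by
    have hcyc : IsCyclic (P : Subgroup G) := isCyclic_of_prime_card hP
    intro x hx
    exact mem_centralizer_iff.2 fun y hy => congrArg Subtype.val
      ((hcyc.isMulCommutative).is_comm.comm (⟨y, hy⟩ : (P : Subgroup G)) ⟨x, hx⟩)
  -- the centralizer of an element of order three of `A` is `A`
  have h3 : ∀ z ∈ A, orderOf z = 3 → centralizer ({z} : Set G) = A ∧ zpowers z ⊔ P = A := by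
    intro z hzA hzo
    have hz1 : z ≠ 1 := fun e' => by rw [e', orderOf_one] at hzo; norm_num at hzo
    have hsup : zpowers z ⊔ P = A := by
      refine eq_of_le_of_card_ge (sup_le (zpowers_le.2 hzA) hPA) ?_
      rw [hAc]
      refine Nat.le_of_dvd Nat.card_pos
        (Nat.Coprime.mul_dvd_of_dvd_of_dvd (m := 3) (n := 13) (by norm_num) ?_ ?_)
      · have := card_dvd_of_le (le_sup_left : zpowers z ≤ zpowers z ⊔ P)
        rwa [Nat.card_zpowers, hzo] at this
      · have := card_dvd_of_le (le_sup_right : (P : Subgroup G) ≤ zpowers z ⊔ P)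
        rwa [hP] at this
    refine ⟨?_, hsup⟩
    have hPz : zpowers z ⊔ P ≤ centralizer ({z} : Set G) :=
      sup_le (zpowers_le.2 (mem_centralizer_singleton_iff.2 rfl)) fun y hy =>
        mem_centralizer_singleton_iff.2 ((mem_centralizer_iff.1 hzA) y hy)
    rw [hsup] at hPz
    refine (eq_of_le_of_card_ge hPz ?_).symm
    have h3' : Nat.card G = 3 ^ 1 * 1040 := by rw [h]; norm_num
    obtain ⟨R, hRz⟩ := exists_mem_sylow_of_orderOf (p := 3) (k := 1) (g := z) (by rw [hzo]; rfl)
    have hR : Nat.card (R : Subgroup G) = 3 := by rw [sylow_card_eq R h3' (by norm_num), pow_one]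
    have hCR : centralizer ((R : Subgroup G) : Set G) = centralizer ({z} : Set G) :=
      (centralizer_eq_of_prime_card Nat.prime_three hR hRz hz1).symm
    have hmem3 := TwoGroups.SmallOrders.card_sylow_mem_cands hG h3' one_ne_zero (by norm_num)
      (by norm_num)
    obtain ⟨a, ha⟩ : ∃ a, Nat.card (normalizer ((R : Subgroup G) : Set G)) = 3 * a := by
      have hd := card_dvd_of_le (le_normalizer (H := (R : Subgroup G)))
      rw [hR] at hd
      exact hd
    obtain ⟨e3, -, he3, he31, hC3⟩ := TwoGroups.SmallOrders.exists_card_centralizer R hR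
      (not_isPGroup_of_dvd Nat.prime_two (by norm_num) (by rw [h]; norm_num)) ha
    have he32 : e3 = 2 := ((Nat.dvd_prime Nat.prime_two).1 he3).resolve_left he31
    subst he32
    have hprod := card_normalizer_mul_card_sylow R
    rw [h, ha, ← hC3, hCR] at hprod
    have hd := card_dvd_of_le hPz
    rw [hAc] at hd
    obtain ⟨l, hl⟩ := hd
    rw [hAc, hl]
    rw [hl] at hprod
    have key3 : ∀ k ∈ TwoGroups.SmallOrders.cands 3 1 1040, 40 % k = 0 → k = 40 := by decide +kernel
    have hk40 := key3 _ hmem3 (Nat.mod_eq_zero_of_dvd ⟨l, by linarith⟩)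
    rw [hk40] at hprod
    omega
  obtain ⟨z0, hz0⟩ := exists_prime_orderOf_dvd_card' (G := A) 3 (by rw [hAc]; norm_num)
  have hz0o : orderOf (z0 : G) = 3 := by rw [Subgroup.orderOf_coe, hz0]
  obtain ⟨hz0C, hz0s⟩ := h3 z0 z0.2 hz0o
  have hcomm : ∀ a ∈ A, ∀ b ∈ A, a * b = b * a := by
    intro a ha b hb
    have hle : A ≤ centralizer ({a} : Set G) := by
      rw [← hz0s]
      refine sup_le (zpowers_le.2 (mem_centralizer_singleton_iff.2 ?_)) fun y hy =>
        mem_centralizer_singleton_iff.2 ((mem_centralizer_iff.1 ha) y hy)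
      exact (mem_centralizer_singleton_iff.1 (hz0C.ge ha)).symm
    exact (mem_centralizer_singleton_iff.1 (hle hb)).symm
  -- `A` has a unique subgroup of order thirteen
  have h13 : ∀ y ∈ A, orderOf y = 13 → y ∈ (P : Subgroup G) := by
    intro y hyA hyo
    by_contra hnot
    have hdisj : Disjoint (P : Subgroup G) (zpowers y) := by
      rw [disjoint_def]
      intro w hw hw'
      by_contra hw1
      apply hnot
      have hz : zpowers w = zpowers y :=
        zpowers_eq_of_prime_card (p := 13) (by norm_num) (by rw [Nat.card_zpowers, hyo]) hw' hw1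
      exact (zpowers_le.2 hw : zpowers w ≤ P) (hz ▸ mem_zpowers _)
    have hinj : Function.Injective (fun q : ↥(P : Subgroup G) × ↥(zpowers y) =>
        (⟨(q.1 : G) * q.2, mul_mem (hPA q.1.2) (zpowers_le.2 hyA q.2.2)⟩ : A)) := fun q q' hq =>
      mul_injective_of_disjoint hdisj (congrArg Subtype.val hq)
    have := Nat.card_le_card_of_injective _ hinj
    rw [Nat.card_prod, hP, Nat.card_zpowers, hyo, hAc] at this
    norm_num at this
  have hself : CfsgLib.CA.SelfCent A := by
    intro x hx hx1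
    refine le_antisymm ?_ fun y hy => mem_centralizer_singleton_iff.2 (hcomm y hy x hx)
    have hd : orderOf x ∣ 39 := hAc ▸ Subgroup.orderOf_dvd_natCard A hx
    have hcase : 13 ∣ orderOf x ∨ orderOf x = 3 := by
      have key : ∀ d < 40, d ∣ 39 → d = 1 ∨ 13 ∣ d ∨ d = 3 := by decide +kernel
      rcases key _ (Nat.lt_succ_of_le (Nat.le_of_dvd (by norm_num) hd)) hd with e' | e'
      · exact absurd (orderOf_eq_one_iff.1 e') hx1
      · exact e'
    rcases hcase with ⟨j, hj⟩ | hx3
    · have hj0 : j ≠ 0 := fun e' => by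
        rw [e', mul_zero] at hj; exact (orderOf_pos x).ne' hj
      have hy : orderOf (x ^ j) = 13 := by
        rw [orderOf_pow' _ hj0, hj, Nat.gcd_mul_left_left, Nat.mul_div_cancel _ (Nat.pos_of_ne_zero hj0)]
      have hyP : x ^ j ∈ (P : Subgroup G) := h13 _ (pow_mem hx j) hy
      have hy1 : x ^ j ≠ 1 := fun e' => by rw [e', orderOf_one] at hy; norm_num at hy
      rw [hA, ← centralizer_eq_of_prime_card (by norm_num) hP hyP hy1]
      intro y hy'
      exact mem_centralizer_singleton_iff.2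
        ((Commute.pow_right (mem_centralizer_singleton_iff.1 hy') j).eq)
    · exact (h3 x hx hx3).1.le
  have hNA : normalizer ((P : Subgroup G) : Set G) ≤ normalizer (A : Set G) := fun g hg => by
    refine mem_normalizer_iff.2 fun a => ?_
    simp only [hA, mem_centralizer_iff, SetLike.mem_coe]
    constructor
    · intro ha y hy
      have := ha (g⁻¹ * y * g) ((mem_normalizer_iff''.1 hg y).1 hy)
      calc y * (g * a * g⁻¹) = g * ((g⁻¹ * y * g) * a) * g⁻¹ := by group
        _ = g * (a * (g⁻¹ * y * g)) * g⁻¹ := by rw [this]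
        _ = g * a * g⁻¹ * y := by group
    · intro ha y hy
      have := ha (g * y * g⁻¹) ((mem_normalizer_iff.1 hg y).1 hy)
      calc y * a = g⁻¹ * ((g * y * g⁻¹) * (g * a * g⁻¹)) * g := by group
        _ = g⁻¹ * ((g * a * g⁻¹) * (g * y * g⁻¹)) * g := by rw [this]
        _ = a * y := by group
  -- the normalizer of `A` normalizes `P`
  have hAN : normalizer (A : Set G) ≤ normalizer ((P : Subgroup G) : Set G) := by
    intro g hg
    have hmap : (P : Subgroup G).map (MulAut.conj g).toMonoidHom = P := by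
      refine eq_of_le_of_card_ge ?_ (card_map_of_injective (MulAut.conj g).injective).ge
      rintro _ ⟨y, hy, rfl⟩
      show g * y * g⁻¹ ∈ _
      by_cases hy1 : y = 1
      · simp [hy1]
      have hyA : g * y * g⁻¹ ∈ A := (mem_normalizer_iff.1 hg y).1 (hPA hy)
      have hyo : orderOf (g * y * g⁻¹) = 13 := by
        rw [orderOf_conj_eq]
        rcases (Nat.dvd_prime (Fact.out : Nat.Prime 13)).1 (hP ▸ Subgroup.orderOf_dvd_natCard _ hy) with e' | e'
        · exact absurd (orderOf_eq_one_iff.1 e') hy1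
        · exact e'
      exact h13 _ hyA hyo
    refine mem_normalizer_iff.2 fun y => ⟨fun hy => ?_, fun hy => ?_⟩
    · rw [← hmap]; exact mem_map_of_mem _ hy
    · rw [← hmap] at hy
      obtain ⟨w, hw, hwy⟩ := hy
      exact (mul_left_cancel (mul_right_cancel (hwy : g * w * g⁻¹ = g * y * g⁻¹))) ▸ hw
  have hind : A.relIndex (normalizer (A : Set G)) = 2 := by
    rw [le_antisymm hAN hNA]; exact hrel
  obtain ⟨u, hu, hu'⟩ : ∃ u ∈ normalizer (A : Set G), u ∉ A := by
    by_contra hno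
    push Not at hno
    have hle : normalizer (A : Set G) ≤ A := hno
    rw [← relIndex_eq_one] at hle
    omega
  obtain ⟨x, w, hx1, hx2, hd1, hd2, hm, -, -, -⟩ :=
    SelfCentDegree.exists_degree_of_index_two' hself (ThreePrimeOrder.perfect_of_nc hG) hind
      (by rw [hAc]; norm_num) hu hu'
  rw [h] at hd1 hd2
  rw [hAc] at hm
  have key : ∀ a ∈ Nat.divisors 3120, ((a % 39 = 1 ∧ 2 ≤ a → ¬ (a + 1) ∣ 3120) ∧
      (a % 39 = 38 ∧ 2 ≤ a → ¬ (a - 1) ∣ 3120)) := by decide +kernel
  obtain ⟨j, hj⟩ := hm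
  push_cast at hj
  have hd10 : x.natAbs ≠ 0 := fun e' => by rw [e'] at hd1; norm_num at hd1
  obtain ⟨kp, kn⟩ := key _ (Nat.mem_divisors.2 ⟨hd1, by norm_num⟩)
  rcases Int.natAbs_eq x with e' | e'
  · exact kp (by omega) (by rwa [show x.natAbs + 1 = (x + 1).natAbs by omega])
  · exact kn (by omega) (by rwa [show x.natAbs - 1 = (x + 1).natAbs by omega])

/-- An involution centralizing a Sylow `7`-subgroup has too large a centralizer. -/
theorem false_3360 (hG : ¬ IsMulCommutative G) (h : Nat.card G = 3360) : False := by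
  haveI : Fact (Nat.Prime 7) := ⟨by norm_num⟩
  haveI : Fact (Nat.Prime 2) := ⟨Nat.prime_two⟩
  haveI := Fintype.ofFinite G
  haveI := Fintype.ofFinite (IrrCharacter G)
  have hperf := ThreePrimeOrder.perfect_of_nc hG
  obtain ⟨P, e, c, hP, hne, hmem, helt, he2, hep, hec, hN, hC, hrel, hkill, hfirst⟩ :=
    exists_open_split hG (p := 7) (m := 480) (by norm_num) (by rw [h]) (by norm_num) (by norm_num)
      (by rw [h]; norm_num)
  rw [h] at hkill
  generalize Nat.card (Sylow 7 G) = k at hmem hec hkill hfirst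
  have key : ∀ k ∈ TwoGroups.SmallOrders.cands 7 1 480, ∀ e < 7, 2 ≤ e → (7 - 1) % e = 0 →
      (480 / k) % e = 0 → (k = 7 + 1 → (7 - 1) % (2 * (480 / k)) = 0) →
      killCentralizer 3360 7 k e (480 / k / e) = false → e = 2 ∧ 480 / k / e = 2 := by
    decide +kernel
  have hcE : 480 / k / e = c := by rw [← hec, Nat.mul_div_cancel_left _ (by omega)]
  obtain ⟨rfl, hc⟩ := key k hmem e helt he2 hep (by rw [← hec, Nat.mul_mod_right])
    hfirst (hcE.symm ▸ hkill)
  rw [hcE] at hc
  subst hc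
  obtain ⟨t, ht⟩ := exists_prime_orderOf_dvd_card' (G := centralizer ((P : Subgroup G) : Set G)) 2
    (by rw [hC]; norm_num)
  have hto : orderOf (t : G) = 2 := by rw [Subgroup.orderOf_coe, ht]
  have ht2 : (t : G) * t = 1 := by rw [← pow_two, ← hto, pow_orderOf_eq_one]
  have ht1 : (t : G) ≠ 1 := fun e' => by rw [e', orderOf_one] at hto; norm_num at hto
  obtain ⟨y0, hy0⟩ := exists_prime_orderOf_dvd_card' (G := (P : Subgroup G)) 7 (by rw [hP])
  have hy : orderOf (y0 : G) = 7 := by rw [Subgroup.orderOf_coe, hy0]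
  have htC : (t : G) ∈ centralizer ({(y0 : G)} : Set G) :=
    mem_centralizer_singleton_iff.2 ((mem_centralizer_iff.1 t.2) _ y0.2).symm
  have hsq : ¬ 7 * 7 ∣ Nat.card G := by rw [h]; norm_num
  obtain ⟨M, hM⟩ := CfsgLib.ZStar.exists_isPModular (Fact.out : Nat.Prime 7)
  haveI := hM.2.1.isPrime
  have hidx : ¬ 7 ∣ (P : Subgroup G).index := fun h' => hsq (by
    rw [← card_mul_index (P : Subgroup G), hP]; exact mul_dvd_mul_left 7 h')
  obtain ⟨V, hV⟩ := CfsgLib.Blocks.PrimeSylow.exists_setup hP hidx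
  haveI := Fintype.ofFinite V
  haveI := Fintype.ofFinite (P : Subgroup G)
  obtain ⟨-, X, Y, hun, hdis, hXc, hYc, εX, ε, hX, hε, hY, -, hYrel⟩ := hV.exists_principal hM hrel
  let d : IrrCharacter G → ℕ := fun χ => charDegree (χ : G → ℂ)
  have hsum := h ▸ sum_degree_sq (G := G)
  have hbasic : ∀ χ ∈ principalBlock M G, χ ≠ trivChar G → ∃ k : ℤ, (χ : G → ℂ) t = k ∧
      (28 : ℤ) ∣ (d χ : ℤ) - k ∧ -(d χ : ℤ) ≤ k ∧ k < d χ ∧ d χ ∣ 3360 ∧ d χ < 58 := by
    intro χ hB hχ
    obtain ⟨k, hk⟩ := SelfCentDegree.exists_int_of_sq_eq_one χ ht2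
    refine ⟨k, hk, ?_, ?_⟩
    · have hval : ∀ i, i < 7 → i ≠ 0 → (χ : G → ℂ) ((y0 : G) ^ i * t) = (χ : G → ℂ) ((y0 : G) ^ i) :=
        fun i hi hi0 => ThreePrimeOrder.apply_pow_mul_eq (Fact.out) hsq hM hB hy htC
          (by rw [hto]; norm_num) hi hi0
      have h2p := ThreePrimeOrder.two_p_dvd_degree_sub (Fact.out : Nat.Prime 7) (by norm_num) hy hto
        (mem_centralizer_singleton_iff.1 htC).symm hk hval
      have h4 := ThreePrimeOrder.four_dvd_degree_sub hperf χ ht2 hk
      simp only [d]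
      push_cast at h2p
      omega
    have hle : |k| ≤ (d χ : ℤ) := by
      have h' := IsChar.norm_le (IsIrr.isCharacter χ.2) (t : G)
      rw [hk, apply_one_eq_charDegree, Complex.norm_intCast, Complex.norm_natCast] at h'
      exact_mod_cast h'
    obtain ⟨hle1, hle2⟩ := abs_le.1 hle
    refine ⟨hle1, lt_of_le_of_ne hle2 fun e' => ht1 ?_, h ▸ charDegree_dvd_card χ, ?_⟩
    · refine ThreePrimeOrder.eq_one_of_apply_eq
        (fun h1 => hχ (FewSylow.eq_trivChar hperf χ h1)) ?_
      rw [hk, e', apply_one_eq_charDegree, Int.cast_natCast]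
    · have h2 := Finset.single_le_sum (f := fun ψ : IrrCharacter G => d ψ ^ 2)
        (fun _ _ => Nat.zero_le _) (Finset.mem_univ χ)
      rw [hsum] at h2
      by_contra hlt
      have : 58 ^ 2 ≤ d χ ^ 2 := Nat.pow_le_pow_left (by omega) 2
      omega
  have hT : d (trivChar G) = 1 := by simp [d, charDegree]
  have htrivB := trivChar_mem_principalBlock (M := M) (G := G)
  rw [hun] at htrivB
  have hTX : trivChar G ∈ X := by
    rcases htrivB with h' | h'
    · exact h'
    · exfalso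
      obtain ⟨j, hj⟩ := Int.modEq_iff_dvd.1 (hY _ h')
      change _ = (7 : ℤ) * j at hj
      simp only [show charDegree ((trivChar G : IrrCharacter G) : G → ℂ) = 1 from hT] at hj
      rcases hε with e' | e' <;> rw [e'] at hj <;> omega
  obtain ⟨χ, hχX, hχ⟩ : ∃ χ ∈ X, χ ≠ trivChar G := by
    by_contra hno
    push Not at hno
    have : X = {trivChar G} := Set.eq_singleton_iff_unique_mem.2 ⟨hTX, hno⟩
    rw [this] at hXc
    simp at hXc
  have hXeq : X = {trivChar G, χ} := by
    refine (Set.eq_of_subset_of_ncard_le (by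
      rintro a (rfl | rfl) <;> assumption) ?_ (Set.toFinite X)).symm
    rw [← Nat.card_coe_set_eq X, hXc, Set.ncard_pair (Ne.symm hχ)]
  have hεT : εX (trivChar G) = 1 := by
    obtain ⟨hs, hm, -⟩ := hX _ hTX
    rcases hs with e' | e'
    · exact e'
    · exfalso
      obtain ⟨j, hj⟩ := Int.modEq_iff_dvd.1 hm
      simp only [show charDegree ((trivChar G : IrrCharacter G) : G → ℂ) = 1 from hT, e'] at hj
      push_cast at hj
      omega
  have hrelT : ∀ θ ∈ Y, ∀ g : G, ¬ 7 ∣ orderOf g →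
      (ε : ℂ) * (θ : G → ℂ) g = 1 + (εX χ : ℂ) * (χ : G → ℂ) g := by
    intro θ hθ g hg
    rw [hYrel θ hθ g hg, hXeq, finsum_mem_pair (Ne.symm hχ), hεT, trivChar_apply]
    simp
  obtain ⟨hsχ, hmχ, -⟩ := hX χ hχX
  obtain ⟨k, hk, hk28, hk1, hk2, hdd, hd58⟩ := hbasic χ (by rw [hun]; exact Or.inl hχX) hχ
  obtain ⟨jχ, hjχ⟩ := Int.modEq_iff_dvd.1 hmχ
  change _ = (7 : ℤ) * jχ at hjχ
  have hYk : ∀ θ ∈ Y, (θ : G → ℂ) t = ((-12 : ℤ) : ℂ) ∧ k = -13 := by
    intro θ hθ
    have hθT : θ ≠ trivChar G := fun e' => hdis.le_bot ⟨hTX, e' ▸ hθ⟩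
    obtain ⟨l, hl, hl28, hl1, hl2, hθd, hθ58⟩ := hbasic θ (by rw [hun]; exact Or.inr hθ) hθT
    obtain ⟨jθ, hjθ⟩ := Int.modEq_iff_dvd.1 (hY θ hθ)
    change _ = (7 : ℤ) * jθ at hjθ
    have h1 := hrelT θ hθ 1 (by rw [orderOf_one]; norm_num)
    rw [apply_one_eq_charDegree, apply_one_eq_charDegree] at h1
    have h1' : ε * (d θ : ℤ) = 1 + εX χ * (d χ : ℤ) := by exact_mod_cast h1
    have key : ∀ a : ℕ, a < 58 → 3360 % a = 0 → 14 ≤ a → (a % 7 = 1 ∨ a % 7 = 6) →
        a = 15 ∨ a = 20 ∨ a = 48 := by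
      decide +kernel
    have key' : ∀ b : ℕ, b < 58 → 3360 % b = 0 → 14 ≤ b → (b % 7 = 2 ∨ b % 7 = 5) →
        b = 16 ∨ b = 30 ∨ b = 40 := by
      decide +kernel
    have ha' := key (d χ) hd58 (Nat.mod_eq_zero_of_dvd hdd) (by omega)
      (by rcases hsχ with e' | e' <;> rw [e'] at hjχ <;> simp only [d] <;> omega)
    have hb' := key' (d θ) hθ58 (Nat.mod_eq_zero_of_dvd hθd) (by omega)
      (by rcases hε with e' | e' <;> rw [e'] at hjθ <;> simp only [d] <;> omega)
    obtain ⟨ha, hb⟩ : d χ = 15 ∧ d θ = 16 := by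
      rcases hsχ with e' | e' <;> rcases hε with e2 | e2 <;> rw [e', e2] at h1' <;> omega
    rw [ha] at hk28 hk1 hk2
    rw [hb] at hl28 hl1 hl2
    push_cast at hk28 hk1 hk2 hl28 hl1 hl2
    exact ⟨by rw [hl]; congr 1; omega, by omega⟩
  -- column orthogonality at `t`
  haveI : Decidable (IsConj (t : G) (t : G)) := Classical.dec _
  have hcol := column_orthogonality (t : G) (t : G)
  rw [if_pos (IsConj.refl _)] at hcol
  have hterm : ∀ ψ : IrrCharacter G, ∃ r : ℤ, (ψ : G → ℂ) t = r ∧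
      (ψ : G → ℂ) t * conj ((ψ : G → ℂ) t) = ((r ^ 2 : ℤ) : ℂ) := fun ψ => by
    obtain ⟨r, hr⟩ := SelfCentDegree.exists_int_of_sq_eq_one ψ ht2
    exact ⟨r, hr, by rw [hr, map_intCast, Int.cast_pow, pow_two]⟩
  choose r hr hr2 using hterm
  rw [Finset.sum_congr rfl (fun ψ _ => hr2 ψ)] at hcol
  have hcol' : ∑ ψ : IrrCharacter G, r ψ ^ 2 =
      (Nat.card (centralizer ({(t : G)} : Set G)) : ℤ) := by exact_mod_cast hcol
  haveI := Fintype.ofFinite Y
  have hYfin : Y.toFinset.card = 3 := by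
    rw [Set.toFinset_card, ← Nat.card_eq_fintype_card]
    exact hYc
  obtain ⟨θ0, hθ0⟩ : Y.toFinset.Nonempty := Finset.card_pos.1 (by omega)
  have hχY : χ ∉ Y.toFinset := fun h' => hdis.le_bot ⟨hχX, Set.mem_toFinset.1 h'⟩
  have hTY : trivChar G ∉ insert χ Y.toFinset := by
    rw [Finset.mem_insert, not_or]
    exact ⟨Ne.symm hχ, fun h' => hdis.le_bot ⟨hTX, Set.mem_toFinset.1 h'⟩⟩
  have hrY : ∀ θ ∈ Y.toFinset, r θ ^ 2 = 144 := fun θ hθ => by
    have h1 := (hYk θ (Set.mem_toFinset.1 hθ)).1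
    rw [hr θ] at h1
    rw [show r θ = -12 by exact_mod_cast h1]
    norm_num
  have hrχ : r χ ^ 2 = 169 := by
    have h1 := hk
    rw [(hYk θ0 (Set.mem_toFinset.1 hθ0)).2, hr χ] at h1
    rw [show r χ = -13 by exact_mod_cast h1]
    norm_num
  have hrT : r (trivChar G) = 1 := by
    have h1 := hr (trivChar G)
    rw [trivChar_apply] at h1
    exact_mod_cast h1.symm
  have hlow : 602 ≤ ∑ ψ ∈ insert (trivChar G) (insert χ Y.toFinset), r ψ ^ 2 := by
    rw [Finset.sum_insert hTY, Finset.sum_insert hχY, Finset.sum_congr rfl hrY, Finset.sum_const,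
      hYfin, hrT, hrχ]
    norm_num
  have hle := Finset.sum_le_sum_of_subset_of_nonneg
    (Finset.subset_univ (insert (trivChar G) (insert χ Y.toFinset)))
    (fun ψ _ _ => sq_nonneg (r ψ))
  rw [hcol'] at hle
  set K := centralizer ({(t : G)} : Set G) with hK
  have h602 : 602 ≤ Nat.card K := by exact_mod_cast hlow.trans hle
  have hKtop : K ≠ ⊤ := fun e' => by
    have hc : (t : G) ∈ center G := mem_center_iff.2 fun g =>
      mem_centralizer_singleton_iff.1 (show g ∈ K by rw [e']; exact mem_top g)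
    rcases (inferInstance : (center G).Normal).eq_bot_or_eq_top with e2 | e2
    · rw [e2, mem_bot] at hc; exact ht1 hc
    · exact hG ⟨⟨fun a b => (mem_center_iff.1 (e2 ▸ mem_top b) a)⟩⟩
  have hidx8 : 6 ≤ K.index := by
    by_contra hlt
    have := two_mul_card_dvd_factorial_of_index_le hG K hKtop (m := 5) (by omega)
    rw [h] at this
    norm_num [Nat.factorial] at this
  have := K.card_mul_index
  rw [h] at this
  nlinarith

end CfsgLib.Perm.SimpleOrders
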