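import Cfsg.Agent.Lib.Perm.SimpleOrders.Checker

/-!
# The test of all orders between 3641 and 6232
-/

set_option autoImplicit false

namespace CfsgLib.Perm.SimpleOrders

/-- `n` is one or a prime power. -/
def primePowB (n : ℕ) : Bool :=
  n == 1 || primeB n || primes80.any fun p =>
    n % p == 0 && primeB p && (let s := TwoGroups.SmallOrders.strip p 13 n; s.2 == 1 && p ^ s.1 == n)

/-- `n` has at most two prime divisors. -/
def twoPrimesB (n : ℕ) : Bool :=
  primePowB n || primes80.any fun p =>
    n % p == 0 && primeB p &&
      (let s := TwoGroups.SmallOrders.strip p 13 n; p ^ s.1 * s.2 == n && primePowB s.2)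

/-- The orders the general tests leave open. -/
def openOrders : List ℕ :=
  [3780, 4080, 4320, 4500, 4725, 4800, 4960, 5040, 5292, 5400, 5460, 5472, 5616, 5760, 5880, 6000,
    6048, 6072]

/-- One of the tests settles `n`. -/
def settled (n : ℕ) : Bool :=
  n % 4 == 2 || twoPrimesB n || (primesOf n).any (killPrime n) || openOrders.contains n

/-- The tests on the two hundred orders from `lo` on. -/
def settledFrom (lo : ℕ) : Bool :=
  (List.range 200).all fun i => settled (lo + i)

theorem exists_prime_pow_of_primePowB {n : ℕ} (h : primePowB n = true) :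
    ∃ q b, Nat.Prime q ∧ q ^ b = n := by
  simp only [primePowB, Bool.or_eq_true, beq_iff_eq, List.any_eq_true, Bool.and_eq_true] at h
  rcases h with (h | h) | ⟨p, -, ⟨-, hp⟩, -, he⟩
  · exact ⟨2, 0, Nat.prime_two, h.symm⟩
  · exact ⟨n, 1, prime_of_primeB h, pow_one n⟩
  · exact ⟨p, _, prime_of_primeB hp, he⟩

theorem false_of_twoPrimesB {G : Type*} [Group G] [Finite G] [IsSimpleGroup G]
    (hG : ¬ IsMulCommutative G) (h : twoPrimesB (Nat.card G) = true) : False := by
  obtain ⟨p, q, a, b, hp, hq, he⟩ :
      ∃ p q a b : ℕ, p.Prime ∧ q.Prime ∧ Nat.card G = p ^ a * q ^ b := by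
    simp only [twoPrimesB, Bool.or_eq_true, List.any_eq_true, Bool.and_eq_true, beq_iff_eq] at h
    rcases h with h | ⟨p, -, ⟨-, hp⟩, he, h'⟩
    · obtain ⟨q, b, hq, he⟩ := exists_prime_pow_of_primePowB h
      exact ⟨2, q, 0, b, Nat.prime_two, hq, by rw [he, pow_zero, one_mul]⟩
    · obtain ⟨q, b, hq, he'⟩ := exists_prime_pow_of_primePowB h'
      exact ⟨p, q, _, b, prime_of_primeB hp, hq, by rw [he', he]⟩
  have hs : Group.IsSolvable G := CfsgLib.Burnside.isSolvable_of_card_eq hp hq he
  have hlt : _root_.commutator G < ⊤ := Group.IsSolvable.commutator_lt_top_of_nontrivial G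
  exact hlt.ne (ThreePrimeOrder.perfect_of_nc hG)

theorem settledFrom_3641 : settledFrom 3641 = true := by decide +kernel

theorem settledFrom_3841 : settledFrom 3841 = true := by decide +kernel

theorem settledFrom_4041 : settledFrom 4041 = true := by decide +kernel

theorem settledFrom_4241 : settledFrom 4241 = true := by decide +kernel

theorem settledFrom_4441 : settledFrom 4441 = true := by decide +kernel

theorem settledFrom_4641 : settledFrom 4641 = true := by decide +kernel

theorem settledFrom_4841 : settledFrom 4841 = true := by decide +kernel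

theorem settledFrom_5041 : settledFrom 5041 = true := by decide +kernel

theorem settledFrom_5241 : settledFrom 5241 = true := by decide +kernel

theorem settledFrom_5441 : settledFrom 5441 = true := by decide +kernel

theorem settledFrom_5641 : settledFrom 5641 = true := by decide +kernel

theorem settledFrom_5841 : settledFrom 5841 = true := by decide +kernel

theorem settledFrom_6033 : settledFrom 6033 = true := by decide +kernel

/-- The tests settle every order between 3641 and 6232. -/
theorem settled_of_range {n : ℕ} (h1 : 3640 < n) (h2 : n ≤ 6232) : settled n = true := by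
  have key : ∀ lo, settledFrom lo = true → lo ≤ n → n < lo + 200 → settled n = true := by
    intro lo h hlo hhi
    rw [settledFrom, List.all_eq_true] at h
    have := h (n - lo) (List.mem_range.2 (by omega))
    rwa [Nat.add_sub_cancel' hlo] at this
  rcases Nat.lt_or_ge n 3841 with h | h
  · exact key 3641 settledFrom_3641 (by omega) h
  rcases Nat.lt_or_ge n 4041 with h | h
  · exact key 3841 settledFrom_3841 (by omega) h
  rcases Nat.lt_or_ge n 4241 with h | h
  · exact key 4041 settledFrom_4041 (by omega) h
  rcases Nat.lt_or_ge n 4441 with h | h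
  · exact key 4241 settledFrom_4241 (by omega) h
  rcases Nat.lt_or_ge n 4641 with h | h
  · exact key 4441 settledFrom_4441 (by omega) h
  rcases Nat.lt_or_ge n 4841 with h | h
  · exact key 4641 settledFrom_4641 (by omega) h
  rcases Nat.lt_or_ge n 5041 with h | h
  · exact key 4841 settledFrom_4841 (by omega) h
  rcases Nat.lt_or_ge n 5241 with h | h
  · exact key 5041 settledFrom_5041 (by omega) h
  rcases Nat.lt_or_ge n 5441 with h | h
  · exact key 5241 settledFrom_5241 (by omega) h
  rcases Nat.lt_or_ge n 5641 with h | h
  · exact key 5441 settledFrom_5441 (by omega) h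
  rcases Nat.lt_or_ge n 5841 with h | h
  · exact key 5641 settledFrom_5641 (by omega) h
  rcases Nat.lt_or_ge n 6041 with h | h
  · exact key 5841 settledFrom_5841 (by omega) h
  exact key 6033 settledFrom_6033 (by omega) (by omega)

end CfsgLib.Perm.SimpleOrders
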