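import Cfsg.Agent.Lib.Perm.SylowFixed
import Cfsg.Agent.Lib.Perm.SylowTransfer
import Cfsg.Agent.Lib.Perm.PrimeOrderCount
import Mathlib.GroupTheory.PGroup

/-!
# Simple groups with a Sylow subgroup of order `p ^ 2` and two meeting Sylow subgroups

An element `d` of order `p` in two Sylow subgroups of order `p ^ 2`: its centralizer `K` has `s > 1`
Sylow subgroups, and the conjugates of `d` in `K` number `1 + s a`.
-/

set_option autoImplicit false

namespace CfsgLib.Perm.SimpleOrders

open Subgroup CfsgLib.Perm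
open scoped Classical

/-- In a group of order twice an odd number the Sylow subgroups lie in a subgroup of index two. -/
theorem exists_le_card_sylow_of_two_mul {K : Type*} [Group K] [Finite K] {p a r : ℕ} [Fact p.Prime]
    (hp2 : p ≠ 2) (hodd : ¬ 2 ∣ p ^ a * r) (hK : Nat.card K = 2 * (p ^ a * r)) :
    ∃ t, t ∣ r ∧ t % p = 1 ∧ Nat.card (Sylow p K) ≤ t := by
  haveI : Fact (Nat.Prime 2) := ⟨Nat.prime_two⟩
  obtain ⟨Q⟩ := (inferInstance : Nonempty (Sylow 2 K))
  have hQ : Nat.card (Q : Subgroup K) = 2 ^ 1 :=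
    sylow_card_eq Q (m := p ^ a * r) (by rw [hK, pow_one]) hodd
  rw [pow_one] at hQ
  have hle := IsCyclic.normalizer_le_centralizer (P := Q)
    ((Nat.minFac_eq_two_iff _).2 (hK ▸ dvd_mul_right 2 _)) (isCyclic_of_prime_card hQ)
  have hcompl := (MonoidHom.ker_transferSylow_isComplement' Q hle).card_mul
  set N := (MonoidHom.transferSylow Q hle).ker with hN
  rw [hQ, hK] at hcompl
  have hNc : Nat.card N = p ^ a * r := by omega
  have hNidx : N.index = 2 := by
    have := N.card_mul_index
    rw [hNc, hK] at this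
    have h0 : 0 < p ^ a * r := by
      rcases Nat.eq_zero_or_pos (p ^ a * r) with e | e
      · exact absurd (e ▸ dvd_zero 2) hodd
      · exact e
    nlinarith
  have hmem : ∀ S : Sylow p K, (S : Subgroup K) ≤ N := by
    intro S x hx
    obtain ⟨i, hi⟩ := S.isPGroup' ⟨x, hx⟩
    have hi' : x ^ p ^ i = 1 := by simpa using congrArg Subtype.val hi
    have hodd' : Odd (p ^ i) := ((Fact.out : p.Prime).odd_of_ne_two hp2).pow
    obtain ⟨j, hj⟩ := hodd'
    have h2 : x ^ 2 ∈ N := by
      have := N.pow_index_mem x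
      rwa [hNidx] at this
    have h3 : x ^ (2 * j + 1) ∈ N := by rw [← hj, hi']; exact one_mem _
    rw [pow_succ, pow_mul] at h3
    exact (mul_mem_cancel_left (pow_mem h2 j)).1 h3
  refine ⟨Nat.card (Sylow p N), card_sylow_dvd_of_card_eq hNc, ?_, ?_⟩
  · have h := card_sylow_modEq_one p N
    rwa [Nat.ModEq, Nat.one_mod_eq_one.2 (Fact.out : p.Prime).ne_one] at h
  · exact Nat.card_le_card_of_injective (fun S => S.subtype (hmem S))
      fun S T e => Sylow.subtype_injective e

variable {G : Type*} [Group G] [Finite G] [IsSimpleGroup G] {p : ℕ} [Fact p.Prime]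

/-- An element of order `p` in two Sylow subgroups of order `p ^ 2`. -/
structure Pinched (p : ℕ) [Fact p.Prime] (d : G) (R : Sylow p G) (i r s : ℕ) : Prop where
  order : orderOf d = p
  mem : d ∈ (R : Subgroup G)
  card_sylow : ∀ T : Sylow p G, Nat.card (T : Subgroup G) = p ^ 2
  le : (R : Subgroup G) ≤ centralizer ({d} : Set G)
  index : (centralizer ({d} : Set G)).index = i
  card : Nat.card (centralizer ({d} : Set G)) = p ^ 2 * r
  two : 2 ≤ i
  count : Nat.card (Sylow p (centralizer ({d} : Set G))) = s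
  one_lt : 1 < s
  modp : s % p = 1
  dvd : s ∣ r
  factorial : 2 * Nat.card G ∣ i.factorial

theorem exists_pinched (hG : ¬ IsMulCommutative G) {m : ℕ} (h : Nat.card G = p ^ 2 * m)
    (hm : ¬ p ∣ m) (hmod : ¬ Nat.card (Sylow p G) ≡ 1 [MOD p ^ 2]) :
    ∃ (d : G) (R : Sylow p G) (i r s : ℕ), Pinched p d R i r s ∧ r * i = m := by
  have hp : p.Prime := Fact.out
  have hall : ∀ T : Sylow p G, Nat.card (T : Subgroup G) = p ^ 2 := fun T => sylow_card_eq T h hm
  obtain ⟨R, S, d, hRS, hd, hdR, hdS⟩ := exists_mem_two_sylows hall hmod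
  set K := centralizer ({d} : Set G) with hK
  have hab : ∀ T : Sylow p G, d ∈ (T : Subgroup G) → (T : Subgroup G) ≤ K := by
    intro T hdT x hx
    rw [hK, mem_centralizer_singleton_iff]
    exact congrArg Subtype.val (IsPGroup.commutative_of_card_eq_prime_sq (hall T) ⟨x, hx⟩ ⟨d, hdT⟩)
  obtain ⟨r, hr⟩ : p ^ 2 ∣ Nat.card K := hall R ▸ card_dvd_of_le (hab R hdR)
  have hrm : r * K.index = m := by
    refine Nat.eq_of_mul_eq_mul_left (pow_pos hp.pos 2) ?_
    rw [← h, ← mul_assoc, ← hr, card_mul_index]
  have hKtop : K ≠ ⊤ := fun e => by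
    have hdc : d ∈ Subgroup.center G := by
      rw [mem_center_iff]
      intro g
      have hg : g ∈ K := e ▸ mem_top g
      exact mem_centralizer_singleton_iff.1 (hK ▸ hg)
    rcases (inferInstance : (Subgroup.center G).Normal).eq_bot_or_eq_top with hc | hc
    · rw [hc, mem_bot] at hdc
      rw [hdc, orderOf_one] at hd
      exact hp.ne_one hd.symm
    · exact hG ⟨⟨fun a b => (mem_center_iff.1 (hc ▸ mem_top b : b ∈ Subgroup.center G)) a⟩⟩
  have hmodK := card_sylow_modEq_one p K
  rw [Nat.ModEq, Nat.one_mod_eq_one.2 hp.ne_one] at hmodK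
  refine ⟨d, R, K.index, r, _, ⟨hd, hdR, hall, hab R hdR, rfl, hr, ?_, rfl, ?_, hmodK,
    card_sylow_dvd_of_card_eq hr, two_mul_card_dvd_factorial_index hG K hKtop⟩, hrm⟩
  · by_contra hlt
    have := K.index_ne_zero_of_finite
    exact hKtop (index_eq_one.1 (by omega))
  · exact Finite.one_lt_card_iff_nontrivial.2
      ⟨R.subtype (hab R hdR), S.subtype (hab S hdS), fun e => hRS (Sylow.subtype_injective e)⟩

section Fusion

variable {d : G} {R : Sylow p G} {i r s : ℕ}

/-- A conjugate of `d` among its powers is `d`, when no subgroup has index at most `i / 2`. -/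
theorem eq_of_mem_zpowers (hG : ¬ IsMulCommutative G) (P : Pinched p d R i r s)
    (hbound : ¬ 2 * Nat.card G ∣ (i / 2).factorial) {g : G}
    (hg : g * d * g⁻¹ ∈ zpowers d) : g * d * g⁻¹ = d := by
  have hp : p.Prime := Fact.out
  have hz : zpowers (g * d * g⁻¹) = zpowers d := by
    refine eq_of_le_of_card_ge (zpowers_le.2 hg) ?_
    rw [Nat.card_zpowers, Nat.card_zpowers, ← MulAut.conj_apply, MulEquiv.orderOf_eq]
  set H := normalizer (zpowers d : Set G) with hH
  have hgH : g ∈ H := by
    rw [hH, mem_normalizer_iff]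
    intro h
    constructor
    · rintro ⟨j, rfl⟩
      show g * d ^ j * g⁻¹ ∈ zpowers d
      rw [← conj_zpow]
      exact zpow_mem hg j
    · intro hh
      rw [← hz] at hh
      obtain ⟨l, hl⟩ := hh
      refine ⟨l, ?_⟩
      have hl' : g * d ^ l * g⁻¹ = g * h * g⁻¹ := by rw [← conj_zpow]; exact hl
      exact mul_left_cancel (mul_right_cancel hl')
  have hKH : centralizer ({d} : Set G) ≤ H := fun x hx => by
    refine centralizer_le_normalizer _ ?_
    rw [zpowers_eq_closure, centralizer_closure]
    exact hx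
  have hHtop : H ≠ ⊤ := fun e => by
    rcases (normalizer_eq_top_iff.1 e).eq_bot_or_eq_top with e1 | e1
    · rw [zpowers_eq_bot] at e1
      have := P.order
      rw [e1, orderOf_one] at this
      exact hp.ne_one this.symm
    · refine hG ⟨⟨fun a b => ?_⟩⟩
      have hc : IsMulCommutative (zpowers d) := inferInstance
      exact congrArg Subtype.val
        (hc.is_comm.comm ⟨a, e1 ▸ mem_top a⟩ ⟨b, e1 ▸ mem_top b⟩)
  have hgK : g ∈ centralizer ({d} : Set G) := by
    have hrel := relIndex_mul_index hKH
    rw [P.index] at hrel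
    rcases Nat.lt_or_ge ((centralizer ({d} : Set G)).relIndex H) 2 with hlt | hge
    · have h0 : (centralizer ({d} : Set G)).relIndex H ≠ 0 := fun e => by
        rw [e, zero_mul] at hrel
        have := P.two
        omega
      exact (relIndex_eq_one.1 (by omega) : H ≤ _) hgH
    · refine absurd (two_mul_card_dvd_factorial_of_index_le hG H hHtop ?_) hbound
      rw [Nat.le_div_iff_mul_le two_pos, ← hrel, mul_comm H.index 2]
      exact Nat.mul_le_mul_right _ hge
  rw [mem_centralizer_singleton_iff] at hgK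
  rw [hgK, mul_inv_cancel_right]

/-- The conjugates of `d` in its centralizer, other than `d`, in a Sylow subgroup of it. -/
abbrev others (d : G) (T : Subgroup G) : Type _ := {e : G // IsConj d e ∧ e ∈ T ∧ e ≠ d}

/-- The conjugates of `d` in its centralizer number `1 + s a`, congruent to `i` modulo `p`. -/
theorem card_fused (hG : ¬ IsMulCommutative G) (P : Pinched p d R i r s)
    (hbound : ¬ 2 * Nat.card G ∣ (i / 2).factorial) :
    Nat.card {e : {e : G // IsConj d e} // (e : G) * d = d * e} =
        1 + s * Nat.card (others d (R : Subgroup G)) ∧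
      Nat.card {e : {e : G // IsConj d e} // (e : G) * d = d * e} ≤ i ∧
      Nat.card {e : {e : G // IsConj d e} // (e : G) * d = d * e} % p = i % p := by
  have hp : p.Prime := Fact.out
  set K := centralizer ({d} : Set G) with hK
  haveI := Fintype.ofFinite G
  have hclass : Nat.card {e : G // IsConj d e} = i := by
    have h1 := card_isConj_mul_card_centralizer d
    rw [← P.index, ← hK]
    refine Nat.eq_of_mul_eq_mul_right (Nat.card_pos (α := K)) ?_
    rw [h1, mul_comm, card_mul_index]
  refine ⟨?_, hclass ▸ Nat.card_le_card_of_injective _ Subtype.val_injective, ?_⟩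
  · have hdK : d ∈ K := mem_centralizer_singleton_iff.2 rfl
    have hsplit : Nat.card {e : {e : G // IsConj d e} // (e : G) * d = d * e} =
        1 + Nat.card (others d K) := by
      rw [← Nat.card_congr (α := Unit ⊕ others d K)
        (β := {e : {e : G // IsConj d e} // (e : G) * d = d * e}) ?_, Nat.card_sum,
        Nat.card_unique]
      exact
        { toFun := fun x => x.elim (fun _ => ⟨⟨d, IsConj.refl d⟩, rfl⟩)
            fun e : others d K => ⟨⟨(e : G), e.2.1⟩, mem_centralizer_singleton_iff.1 e.2.2.1⟩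
          invFun := fun e => if h : (e.1 : G) = d then Sum.inl () else
            Sum.inr ⟨e.1, e.1.2, mem_centralizer_singleton_iff.2 e.2, h⟩
          left_inv := by
            rintro (_ | e)
            · simp
            · simp [e.2.2.2]
          right_inv := by
            intro e
            by_cases h : (e.1 : G) = d
            · simp only [h, dif_pos, Sum.elim_inl]
              exact Subtype.ext (Subtype.ext h.symm)
            · simp [h] }
    rw [hsplit]
    congr 1
    have hT : ∀ T : Sylow p K, Nat.card (T : Subgroup K) = p ^ 2 := fun T => by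
      rw [card_sylow_congr T (R.subtype P.le)]
      exact (Nat.card_congr (subgroupOfEquivOfLe P.le).toEquiv).trans (P.card_sylow R)
    have hdT : ∀ T : Sylow p K, (⟨d, hdK⟩ : K) ∈ (T : Subgroup K) := by
      intro T
      obtain ⟨k, hk⟩ := MulAction.exists_smul_eq K (R.subtype P.le) T
      rw [← hk, Sylow.coe_subgroup_smul, mem_pointwise_smul_iff_inv_smul_mem]
      have hkd := mem_centralizer_singleton_iff.1 k.2
      have : (MulAut.conj k)⁻¹ • (⟨d, hdK⟩ : K) = ⟨d, hdK⟩ := by
        rw [MulAut.smul_def, ← map_inv, MulAut.conj_apply, inv_inv]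
        refine Subtype.ext ?_
        show (k : G)⁻¹ * d * k = d
        rw [mul_assoc, ← hkd, inv_mul_cancel_left]
      rw [this]
      exact P.mem
    -- each other conjugate lies in exactly one Sylow subgroup
    have hex : ∀ e : others d K, ∃ T : Sylow p K, (⟨e, e.2.2.1⟩ : K) ∈ (T : Subgroup K) := fun e => by
      refine exists_mem_sylow_of_orderOf (k := 1) ?_
      rw [pow_one, Subgroup.orderOf_mk]
      obtain ⟨g, hg⟩ := isConj_iff.1 e.2.1
      rw [← hg, ← MulAut.conj_apply, MulEquiv.orderOf_eq, P.order]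
    choose τ hτ using hex
    have huniq : ∀ (e : others d K) (T : Sylow p K), (⟨e, e.2.2.1⟩ : K) ∈ (T : Subgroup K) →
        T = τ e := by
      intro e T hT'
      set I := (T : Subgroup K) ⊓ (τ e : Subgroup K) with hI
      have hlt : p < Nat.card I := by
        have hle : zpowers (⟨d, hdK⟩ : K) ≤ I := zpowers_le.2 ⟨hdT T, hdT _⟩
        have hne : zpowers (⟨d, hdK⟩ : K) ≠ I := fun h => by
          have he : (⟨e, e.2.2.1⟩ : K) ∈ zpowers (⟨d, hdK⟩ : K) := h ▸ ⟨hT', hτ e⟩
          obtain ⟨j, hj⟩ := he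
          have hj' : d ^ j = (e : G) := congrArg Subtype.val hj
          obtain ⟨g, hg⟩ := isConj_iff.1 e.2.1
          exact e.2.2.2 (hg ▸ eq_of_mem_zpowers hG P hbound (hg ▸ hj' ▸ ⟨j, rfl⟩))
        have := Nat.card_zpowers (⟨d, hdK⟩ : K)
        rw [Subgroup.orderOf_mk, P.order] at this
        rw [← this]
        exact lt_of_le_of_ne (Subgroup.card_le_of_le hle) fun h =>
          hne (eq_of_le_of_card_ge hle h.ge)
      have hd2 : Nat.card I ∣ p ^ 2 := hT T ▸ card_dvd_of_le inf_le_left
      have hI2 : Nat.card I = p ^ 2 := by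
        obtain ⟨j, hj, hj'⟩ := (Nat.dvd_prime_pow hp).1 hd2
        rw [hj'] at hlt ⊢
        interval_cases j
        · simp only [pow_zero] at hlt; have := hp.two_le; omega
        · simp at hlt
        · rfl
      refine Sylow.ext ((eq_of_le_of_card_ge (inf_le_left : I ≤ _) ?_).symm.trans
        (eq_of_le_of_card_ge (inf_le_right : I ≤ _) ?_))
      · rw [hI2, hT]
      · rw [hI2, hT]
    rw [← P.count]
    have e1 : others d K ≃ Σ T : Sylow p K, {e : others d K // τ e = T} :=
      (Equiv.sigmaFiberEquiv τ).symm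
    rw [Nat.card_congr e1, Nat.card_sigma]
    have hfib : ∀ T : Sylow p K, Nat.card {e : others d K // τ e = T} =
        Nat.card (others d (R : Subgroup G)) := by
      intro T
      obtain ⟨k, hk⟩ := MulAction.exists_smul_eq K (R.subtype P.le) T
      have hkd : (k : G) * d * (k : G)⁻¹ = d := by
        rw [mem_centralizer_singleton_iff.1 k.2, mul_inv_cancel_right]
      have hiff : ∀ x : K, x ∈ (T : Subgroup K) ↔
          (k : G)⁻¹ * x * k ∈ (R : Subgroup G) := fun x => by
        rw [← hk, Sylow.coe_subgroup_smul, mem_pointwise_smul_iff_inv_smul_mem, MulAut.smul_def,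
          ← map_inv, MulAut.conj_apply, inv_inv]
        rfl
      refine Nat.card_congr
        { toFun := fun e => ⟨(k : G)⁻¹ * e.1 * k, ?_, ?_, ?_⟩
          invFun := fun f => ⟨⟨(k : G) * f * (k : G)⁻¹, ?_, ?_, ?_⟩, ?_⟩
          left_inv := fun e => by apply Subtype.ext; apply Subtype.ext; simp [mul_assoc]
          right_inv := fun f => by apply Subtype.ext; simp [mul_assoc] }
      · exact e.1.2.1.trans (isConj_iff.2 ⟨(k : G)⁻¹, by group⟩)
      · have := hτ e.1
        rw [e.2] at this
        exact (hiff ⟨e.1, e.1.2.2.1⟩).1 this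
      · intro h
        refine e.1.2.2.2 ?_
        rw [show (e.1 : G) = k * ((k : G)⁻¹ * e.1 * k) * (k : G)⁻¹ by group, h, hkd]
      · exact f.2.1.trans (isConj_iff.2 ⟨(k : G), rfl⟩)
      · exact mul_mem (mul_mem k.2 (P.le f.2.2.1)) (inv_mem k.2)
      · intro h
        refine f.2.2.2 ?_
        rw [show (f : G) = (k : G)⁻¹ * (k * f * (k : G)⁻¹) * k by group, h, mul_assoc,
          ← mem_centralizer_singleton_iff.1 k.2, inv_mul_cancel_left]
      · exact (huniq _ T ((hiff _).2 (by simpa [mul_assoc] using f.2.2.1))).symm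
    rw [Finset.sum_congr rfl (fun T _ => hfib T), Finset.sum_const, Finset.card_univ,
      Nat.card_eq_fintype_card (α := Sylow p K), smul_eq_mul]
  · let _ : MulAction (zpowers d) {e : G // IsConj d e} :=
      { smul := fun u e => ⟨(u : G) * e * (u : G)⁻¹, e.2.trans (isConj_iff.2 ⟨(u : G), rfl⟩)⟩
        one_smul := fun e => Subtype.ext (by
          show ((1 : zpowers d) : G) * e * ((1 : zpowers d) : G)⁻¹ = e
          simp)
        mul_smul := fun u w e => Subtype.ext (by
          show ((u * w : zpowers d) : G) * e * ((u * w : zpowers d) : G)⁻¹ =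
            (u : G) * ((w : G) * e * (w : G)⁻¹) * (u : G)⁻¹
          rw [coe_mul]; group) }
    have hgrp : IsPGroup p (zpowers d) :=
      IsPGroup.of_card (n := 1) (by rw [Nat.card_zpowers, P.order, pow_one])
    have h := hgrp.card_modEq_card_fixedPoints {e : G // IsConj d e}
    rw [hclass] at h
    refine Eq.trans ?_ h.symm
    congr 1
    refine Nat.card_congr (Equiv.subtypeEquivRight fun e => ⟨fun he u => Subtype.ext ?_, fun he => ?_⟩)
    · show (u : G) * e * (u : G)⁻¹ = e
      obtain ⟨j, hj⟩ := u.2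
      have hc : Commute (d ^ j) (e : G) := (Commute.zpow_left (show Commute d (e : G) from he.symm) j)
      rw [← hj, hc.eq, mul_inv_cancel_right]
    · have h1 := congrArg Subtype.val (he ⟨d, mem_zpowers d⟩)
      exact (mul_inv_eq_iff_eq_mul.1 h1).symm

/-- If `d` is its only conjugate in `R`, transfer makes it trivial. -/
theorem false_of_no_others (hG : ¬ IsMulCommutative G) (P : Pinched p d R i r s)
    (h0 : Nat.card (others d (R : Subgroup G)) = 0) : False := by
  have hab : IsMulCommutative (R : Subgroup G) :=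
    IsPGroup.isMulCommutative_of_card_eq_prime_sq (P.card_sylow R)
  have hd1 := eq_one_of_central_in_sylow_normalizer hG R hab P.mem fun g hg => by
    have hgd : g * d * g⁻¹ = d := by
      by_contra hne
      haveI : IsEmpty (others d (R : Subgroup G)) :=
        (Nat.card_eq_zero.1 h0).resolve_right (not_infinite_iff_finite.2 inferInstance)
      exact IsEmpty.false (⟨g * d * g⁻¹, isConj_iff.2 ⟨g, rfl⟩,
        (mem_normalizer_iff.1 hg d).1 P.mem, hne⟩ : others d (R : Subgroup G))
    exact mul_inv_eq_iff_eq_mul.1 hgd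
  have := P.order
  rw [hd1, orderOf_one] at this
  exact (Fact.out : p.Prime).ne_one this.symm

/-- With two other conjugates in `R`, each moving only `p` of the conjugates, a contradiction. -/
theorem false_of_two_others (hG : ¬ IsMulCommutative G) (P : Pinched p d R i r s)
    (hbound : ¬ 2 * Nat.card G ∣ (i / 2).factorial)
    (h2 : Nat.card (others d (R : Subgroup G)) = 2)
    (hmoved : Nat.card {e : {e : G // IsConj d e} // (e : G) * d = d * e} + p = i) : False := by
  have hp : p.Prime := Fact.out
  haveI := Fintype.ofFinite G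
  let C := {e : G // IsConj d e}
  let M : G → Finset C := fun w => Finset.univ.filter fun f : C => ¬ (f : G) * w = w * f
  have hMd : (M d).card = p := by
    have h1 := card_isConj_mul_card_centralizer d
    have hC : Nat.card C = i := by
      rw [← P.index]
      refine Nat.eq_of_mul_eq_mul_right (Nat.card_pos (α := centralizer ({d} : Set G))) ?_
      rw [h1, mul_comm, card_mul_index]
    have h3 := Nat.card_congr (Equiv.sumCompl fun f : C => (f : G) * d = d * f)
    rw [Nat.card_sum, hC] at h3
    have h4 : Nat.card {f : C // ¬ (f : G) * d = d * f} = p :=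
      Nat.add_left_cancel (h3.trans hmoved.symm)
    rw [Nat.card_eq_fintype_card, Fintype.card_subtype] at h4
    simp only [M]
    convert h4
  have hMconj : ∀ e : C, (M e).card = p := by
    intro e
    obtain ⟨g, hg⟩ := isConj_iff.1 e.2
    rw [← hMd]
    symm
    refine Finset.card_equiv
      ⟨fun f => ⟨g * f * g⁻¹, f.2.trans (isConj_iff.2 ⟨g, rfl⟩)⟩,
        fun f => ⟨g⁻¹ * f * g, f.2.trans (isConj_iff.2 ⟨g⁻¹, by group⟩)⟩,
        fun f => Subtype.ext (by simp [mul_assoc]), fun f => Subtype.ext (by simp [mul_assoc])⟩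
      fun f => ?_
    simp only [M, Finset.mem_filter, Finset.mem_univ, true_and, Equiv.coe_fn_mk, ← hg]
    rw [not_iff_not]
    constructor
    · intro h
      calc g * f * g⁻¹ * (g * d * g⁻¹) = g * ((f : G) * d) * g⁻¹ := by group
        _ = g * (d * f) * g⁻¹ := by rw [h]
        _ = g * d * g⁻¹ * (g * f * g⁻¹) := by group
    · intro h
      calc (f : G) * d = g⁻¹ * (g * f * g⁻¹ * (g * d * g⁻¹)) * g := by group
        _ = g⁻¹ * (g * d * g⁻¹ * (g * f * g⁻¹)) * g := by rw [h]
        _ = d * f := by group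
  obtain ⟨⟨e₁, h1c, h1R, h1d⟩, ⟨e₂, h2c, h2R, h2d⟩, hne, huniv⟩ := Nat.card_eq_two_iff.1 h2
  have hne12 : e₁ ≠ e₂ := fun e => hne (Subtype.ext e)
  have hab : IsMulCommutative (R : Subgroup G) :=
    IsPGroup.isMulCommutative_of_card_eq_prime_sq (P.card_sylow R)
  have hcomm : ∀ x ∈ (R : Subgroup G), ∀ w ∈ (R : Subgroup G), x * w = w * x := fun x hx w hw =>
    congrArg Subtype.val (hab.is_comm.comm ⟨x, hx⟩ ⟨w, hw⟩)
  -- the product of the three conjugates is central in the normalizer
  have hprod : d * e₁ * e₂ = 1 := by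
    refine eq_one_of_central_in_sylow_normalizer hG R hab (mul_mem (mul_mem P.mem h1R) h2R)
      fun g hg => ?_
    have hmap : ∀ x : G, IsConj d x → x ∈ (R : Subgroup G) →
        g * x * g⁻¹ = d ∨ g * x * g⁻¹ = e₁ ∨ g * x * g⁻¹ = e₂ := by
      intro x hx hxR
      by_cases h : g * x * g⁻¹ = d
      · exact Or.inl h
      · right
        have hm : (⟨g * x * g⁻¹, hx.trans (isConj_iff.2 ⟨g, rfl⟩),
            (mem_normalizer_iff.1 hg x).1 hxR, h⟩ : others d (R : Subgroup G)) ∈
            (Set.univ : Set (others d (R : Subgroup G))) := Set.mem_univ _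
        rw [← huniv] at hm
        rcases hm with h' | h'
        · exact Or.inl (congrArg Subtype.val h')
        · exact Or.inr (congrArg Subtype.val h')
    have hinj : ∀ x w : G, g * x * g⁻¹ = g * w * g⁻¹ → x = w := fun x w h =>
      mul_left_cancel (mul_right_cancel h)
    have e0 : g * (d * e₁ * e₂) * g⁻¹ = (g * d * g⁻¹) * (g * e₁ * g⁻¹) * (g * e₂ * g⁻¹) := by group
    have hc1 := hcomm d P.mem e₁ h1R
    have hc2 := hcomm d P.mem e₂ h2R
    have hc3 := hcomm e₁ h1R e₂ h2R
    have c1 : Commute d e₁ := hc1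
    have c2 : Commute d e₂ := hc2
    have c3 : Commute e₁ e₂ := hc3
    have p1 : d * e₂ * e₁ = d * e₁ * e₂ := by rw [mul_assoc, ← c3.eq, ← mul_assoc]
    have p2 : e₁ * d * e₂ = d * e₁ * e₂ := by rw [c1.eq]
    have p3 : e₁ * e₂ * d = d * e₁ * e₂ := by rw [← (c1.mul_right c2).eq, mul_assoc]
    have p4 : e₂ * d * e₁ = d * e₁ * e₂ := by rw [← c2.eq, p1]
    have p5 : e₂ * e₁ * d = d * e₁ * e₂ := by rw [← c3.eq, p3]
    refine mul_inv_eq_iff_eq_mul.1 ?_
    rw [e0]
    rcases hmap d (IsConj.refl d) P.mem with a | a | a <;>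
      rcases hmap e₁ h1c h1R with b | b | b <;>
      rcases hmap e₂ h2c h2R with c | c | c <;>
      first
      | exact absurd (hinj _ _ (a.trans b.symm)) (Ne.symm h1d)
      | exact absurd (hinj _ _ (a.trans c.symm)) (Ne.symm h2d)
      | exact absurd (hinj _ _ (b.trans c.symm)) hne12
      | (rw [a, b, c]; done)
      | (rw [a, b, c]; first | exact p1 | exact p2 | exact p3 | exact p4 | exact p5)
  -- disjoint supports
  have hdj : ∀ f : C, f ∈ M d → f ∉ M e₁ := by
    intro x hxd hx1
    simp only [M, Finset.mem_filter, Finset.mem_univ, true_and] at hxd hx1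
    let orb : Fin p → C := fun j =>
      ⟨d ^ (j : ℕ) * x * (d ^ (j : ℕ))⁻¹, x.2.trans (isConj_iff.2 ⟨d ^ (j : ℕ), rfl⟩)⟩
    have horbM : ∀ w : G, Commute d w → ¬ (x : G) * w = w * x →
        ∀ j, orb j ∈ M w := fun w hw hxw j => by
      simp only [M, orb, Finset.mem_filter, Finset.mem_univ, true_and]
      intro h
      refine hxw ?_
      have hcw : Commute (d ^ (j : ℕ)) w := hw.pow_left _
      have h2 : Commute ((d ^ (j : ℕ))⁻¹ * (d ^ (j : ℕ) * x * (d ^ (j : ℕ))⁻¹) * d ^ (j : ℕ)) w :=
        (hcw.inv_left.mul_left h).mul_left hcw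
      rwa [show (d ^ (j : ℕ))⁻¹ * (d ^ (j : ℕ) * x * (d ^ (j : ℕ))⁻¹) * d ^ (j : ℕ) = (x : G) by
        group] at h2
    have horbinj : Function.Injective orb := by
      intro j l h
      have h' : d ^ (j : ℕ) * (x : G) * (d ^ (j : ℕ))⁻¹ = d ^ (l : ℕ) * x * (d ^ (l : ℕ))⁻¹ :=
        congrArg Subtype.val h
      have hw : ((d ^ (l : ℕ))⁻¹ * d ^ (j : ℕ)) ∈ centralizer ({(x : G)} : Set G) := by
        rw [mem_centralizer_singleton_iff]
        calc (d ^ (l : ℕ))⁻¹ * d ^ (j : ℕ) * x
            = (d ^ (l : ℕ))⁻¹ * (d ^ (j : ℕ) * x * (d ^ (j : ℕ))⁻¹) * d ^ (j : ℕ) := by group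
          _ = (d ^ (l : ℕ))⁻¹ * (d ^ (l : ℕ) * x * (d ^ (l : ℕ))⁻¹) * d ^ (j : ℕ) := by rw [h']
          _ = x * ((d ^ (l : ℕ))⁻¹ * d ^ (j : ℕ)) := by group
      by_contra hjl
      have hwz : (d ^ (l : ℕ))⁻¹ * d ^ (j : ℕ) ∈ zpowers d :=
        mul_mem (inv_mem (pow_mem (mem_zpowers d) _)) (pow_mem (mem_zpowers d) _)
      have hw1 : (d ^ (l : ℕ))⁻¹ * d ^ (j : ℕ) ≠ 1 := fun e => by
        refine hjl (Fin.ext ?_)
        exact pow_injOn_Iio_orderOf (by rw [P.order]; exact j.2) (by rw [P.order]; exact l.2)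
          (inv_mul_eq_one.1 e).symm
      have hz : zpowers ((d ^ (l : ℕ))⁻¹ * d ^ (j : ℕ)) = zpowers d := by
        refine eq_of_le_of_card_ge (zpowers_le.2 hwz) ?_
        rw [Nat.card_zpowers, Nat.card_zpowers, P.order]
        have hd := Subgroup.orderOf_dvd_natCard _ hwz
        rw [Nat.card_zpowers, P.order] at hd
        rcases (Nat.dvd_prime hp).1 hd with e | e
        · exact absurd (orderOf_eq_one_iff.1 e) hw1
        · exact e.ge
      have hdx : d ∈ centralizer ({(x : G)} : Set G) :=
        (zpowers_le.2 hw : zpowers _ ≤ _) (hz ▸ mem_zpowers d)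
      exact hxd (mem_centralizer_singleton_iff.1 hdx).symm
    have himg : ∀ w : G, (M w).card = p → Commute d w → ¬ (x : G) * w = w * x →
        Finset.univ.image orb = M w := fun w hw hcw hxw => by
      refine Finset.eq_of_subset_of_card_le ?_ ?_
      · intro f hf
        obtain ⟨j, -, rfl⟩ := Finset.mem_image.1 hf
        exact horbM w hcw hxw j
      · rw [hw, Finset.card_image_of_injective _ horbinj, Finset.card_univ, Fintype.card_fin]
    have c1 : Commute d e₁ := hcomm d P.mem e₁ h1R
    have hd' := himg d hMd (Commute.refl d) hxd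
    have he' := himg e₁ (hMconj ⟨e₁, h1c⟩) c1 hx1
    -- `e₁` acts on the orbit as a power of `d`
    obtain ⟨j, hj⟩ : ∃ j, orb j = ⟨e₁ * x * e₁⁻¹, x.2.trans (isConj_iff.2 ⟨e₁, rfl⟩)⟩ := by
      have hmem : (⟨e₁ * x * e₁⁻¹, x.2.trans (isConj_iff.2 ⟨e₁, rfl⟩)⟩ : C) ∈
          Finset.univ.image orb := by
        rw [hd']
        simp only [M, Finset.mem_filter, Finset.mem_univ, true_and]
        intro h
        refine hxd ?_
        have h2 : Commute (e₁⁻¹ * (e₁ * x * e₁⁻¹) * e₁) d :=
          (c1.symm.inv_left.mul_left h).mul_left c1.symm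
        rwa [show e₁⁻¹ * (e₁ * x * e₁⁻¹) * e₁ = (x : G) by group] at h2
      obtain ⟨j, -, hj⟩ := Finset.mem_image.1 hmem
      exact ⟨j, hj⟩
    set w := (d ^ (j : ℕ))⁻¹ * e₁ with hw
    have hwd : Commute d w := ((Commute.refl d).pow_right _).inv_right.mul_right c1
    have hwx : Commute w (x : G) := by
      have hj' : d ^ (j : ℕ) * (x : G) * (d ^ (j : ℕ))⁻¹ = e₁ * x * e₁⁻¹ := congrArg Subtype.val hj
      show w * x = x * w
      calc w * x = (d ^ (j : ℕ))⁻¹ * (e₁ * x * e₁⁻¹) * e₁ := by rw [hw]; group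
        _ = (d ^ (j : ℕ))⁻¹ * (d ^ (j : ℕ) * x * (d ^ (j : ℕ))⁻¹) * e₁ := by rw [hj']
        _ = x * w := by rw [hw]; group
    have hwall : ∀ f : C, Commute w (f : G) := by
      intro f
      by_cases hf : f ∈ M d
      · rw [← hd'] at hf
        obtain ⟨l, -, rfl⟩ := Finset.mem_image.1 hf
        exact ((hwd.symm.pow_right _).mul_right hwx).mul_right (hwd.symm.pow_right _).inv_right
      · have hf1 : f ∉ M e₁ := by rwa [← he', hd']
        simp only [M, Finset.mem_filter, Finset.mem_univ, true_and, not_not] at hf hf1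
        exact (Commute.inv_left ((show Commute d (f : G) from hf.symm).pow_left _)).mul_left hf1.symm
    -- so `w` is central
    have hw1 : w = 1 := by
      have hN : (normalClosure ({d} : Set G)) = ⊤ := by
        refine (normalClosure_normal.eq_bot_or_eq_top).resolve_left fun e => ?_
        have hd : d ∈ normalClosure ({d} : Set G) := subset_normalClosure rfl
        rw [e, mem_bot] at hd
        have := P.order
        rw [hd, orderOf_one] at this
        exact hp.ne_one this.symm
      have hle : normalClosure ({d} : Set G) ≤ centralizer ({w} : Set G) := by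
        refine (closure_le _).2 fun f hf => ?_
        obtain ⟨a, ha, hconj⟩ := Group.mem_conjugatesOfSet_iff.1 hf
        rw [Set.mem_singleton_iff] at ha
        subst ha
        exact mem_centralizer_singleton_iff.2 (hwall ⟨f, hconj⟩).symm.eq
      rw [hN, top_le_iff] at hle
      have hwc : w ∈ Subgroup.center G := mem_center_iff.2 fun g =>
        mem_centralizer_singleton_iff.1 (hle ▸ mem_top g)
      rcases (inferInstance : (Subgroup.center G).Normal).eq_bot_or_eq_top with hc | hc
      · rwa [hc, mem_bot] at hwc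
      · exact absurd ⟨⟨fun a b => (mem_center_iff.1 (hc ▸ mem_top b : b ∈ Subgroup.center G)) a⟩⟩ hG
    obtain ⟨g, hg⟩ := isConj_iff.1 h1c
    rw [hw, inv_mul_eq_one] at hw1
    refine h1d (hg ▸ eq_of_mem_zpowers hG P hbound ?_)
    rw [hg, ← hw1]
    exact pow_mem (mem_zpowers d) _
  -- both supports lie in that of `e₂`
  have hsub : M d ∪ M e₁ ⊆ M e₂ := by
    intro f hf
    have he2 : e₂ = (d * e₁)⁻¹ := eq_inv_of_mul_eq_one_right hprod
    simp only [M, Finset.mem_filter, Finset.mem_univ, true_and, he2]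
    intro h
    have hc : Commute (f : G) (d * e₁) := by
      have h' : Commute (f : G) (d * e₁)⁻¹ := h
      simpa using h'.inv_right
    rcases Finset.mem_union.1 hf with hf | hf
    · have hf1 := hdj f hf
      simp only [M, Finset.mem_filter, Finset.mem_univ, true_and, not_not] at hf hf1
      refine hf ?_
      have h1 : Commute (f : G) e₁ := hf1
      have := hc.mul_right h1.inv_right
      rwa [mul_inv_cancel_right] at this
    · have hf1 : f ∉ M d := fun h' => hdj f h' hf
      simp only [M, Finset.mem_filter, Finset.mem_univ, true_and, not_not] at hf hf1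
      refine hf ?_
      have h1 : Commute (f : G) d := hf1
      have := h1.inv_right.mul_right hc
      rwa [inv_mul_cancel_left] at this
  have hcard := Finset.card_le_card hsub
  rw [Finset.card_union_of_disjoint (Finset.disjoint_left.2 hdj), hMd, hMconj ⟨e₁, h1c⟩,
    hMconj ⟨e₂, h2c⟩] at hcard
  have := hp.two_le
  omega

end Fusion

end CfsgLib.Perm.SimpleOrders
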