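import Cfsg.Agent.Lib.Perm.SimpleOrders.Checker
import Cfsg.Agent.Lib.Perm.SimpleOrders.SquareSylow
import Cfsg.Agent.Lib.Perm.FewSylowTable
import Cfsg.Agent.S0992

/-!
# Some orders of simple groups that the general tests do not exclude

The orders 3780, 4500, 4725, 4800, 4960, 5292, 5400, 5460, 5880 and 6000.
-/

set_option autoImplicit false

namespace CfsgLib.Perm.SimpleOrders

open Cfsg CfsgLib.Char CfsgLib.Blocks Subgroup CfsgLib.Perm

variable {G : Type*} [Group G] [Finite G] [IsSimpleGroup G]

/-- Orders with a Sylow subgroup of order `5 ^ 3`. -/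
theorem false_4500_6000 (hG : ¬ IsMulCommutative G)
    (h : Nat.card G = 4500 ∨ Nat.card G = 6000) : False := by
  haveI : Fact (Nat.Prime 5) := ⟨by norm_num⟩
  obtain ⟨m, b, hm, hm5, hm1, hmod, hdiv, hb⟩ : ∃ m b, Nat.card G = 5 ^ 3 * m ∧ ¬ 5 ∣ m ∧ m ≠ 1 ∧
      (∀ k ∈ TwoGroups.SmallOrders.cands 5 3 m, k % 25 ≠ 1) ∧
      ¬ 2 * Nat.card G ∣ Nat.factorial b ∧ m / 6 ≤ b := by
    rcases h with h | h
    · exact ⟨36, 6, by rw [h]; norm_num, by norm_num, by norm_num, by decide +kernel,
        by rw [h]; decide +kernel, by norm_num⟩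
    · exact ⟨48, 8, by rw [h]; norm_num, by norm_num, by norm_num, by decide +kernel,
        by rw [h]; decide +kernel, by norm_num⟩
  have hmem := TwoGroups.SmallOrders.card_sylow_mem_cands hG hm (by norm_num) hm5 hm1
  obtain ⟨R, S, hRS, hidx⟩ := exists_sylow_pair_index_le (G := G) 5 2 (by
    intro e
    exact hmod _ hmem (by simpa [Nat.ModEq] using e))
  obtain ⟨H, hH, -, hle⟩ :=
    TwoGroups.SmallOrders.exists_large_subgroup hm (by norm_num) hm5 hRS (by simpa using hidx)
  exact hdiv (two_mul_card_dvd_factorial_of_index_le hG H hH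
    (le_trans ((Nat.le_div_iff_mul_le (by norm_num)).2 hle) hb))

/-- Orders `p ^ 2 * m` where the centralizer of a pinched element has small index. -/
theorem false_4725_5292 (hG : ¬ IsMulCommutative G)
    (h : Nat.card G = 4725 ∨ Nat.card G = 5292) : False := by
  rcases h with h | h
  · haveI : Fact (Nat.Prime 5) := ⟨by norm_num⟩
    have hm : Nat.card G = 5 ^ 2 * 189 := by rw [h]; norm_num
    have hmem := TwoGroups.SmallOrders.card_sylow_mem_cands hG hm (by norm_num) (by norm_num)
      (by norm_num)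
    have hc : TwoGroups.SmallOrders.cands 5 2 189 = [21] := by decide +kernel
    rw [hc, List.mem_singleton] at hmem
    obtain ⟨d, R, i, r, s, P, hri⟩ := exists_pinched hG hm (by norm_num) (by
      rw [hmem]; decide)
    have key : ∀ t < 190, t ∣ 189 → t % 5 = 1 → 1 < t → t = 21 := by decide +kernel
    have hsm : s ∣ 189 := hri ▸ dvd_mul_of_dvd_left P.dvd i
    have hs := key s (Nat.lt_succ_of_le (Nat.le_of_dvd (by norm_num) hsm)) hsm P.modp P.one_lt
    obtain ⟨c, hc'⟩ := P.dvd
    subst hs
    rw [hc', mul_assoc] at hri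
    have hi : i ≤ 9 := Nat.le_of_dvd (by norm_num) ⟨c, by linarith⟩
    have hf : 2 * Nat.card G ∣ Nat.factorial 9 :=
      P.factorial.trans (Nat.factorial_dvd_factorial hi)
    rw [h] at hf
    revert hf; decide +kernel
  · haveI : Fact (Nat.Prime 7) := ⟨by norm_num⟩
    have hm : Nat.card G = 7 ^ 2 * 108 := by rw [h]; norm_num
    have hmem := TwoGroups.SmallOrders.card_sylow_mem_cands hG hm (by norm_num) (by norm_num)
      (by norm_num)
    have hc : TwoGroups.SmallOrders.cands 7 2 108 = [36] := by decide +kernel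
    rw [hc, List.mem_singleton] at hmem
    obtain ⟨d, R, i, r, s, P, hri⟩ := exists_pinched hG hm (by norm_num) (by
      rw [hmem]; decide)
    have key : ∀ t < 109, t ∣ 108 → t % 7 = 1 → 1 < t → t = 36 := by decide +kernel
    have hsm : s ∣ 108 := hri ▸ dvd_mul_of_dvd_left P.dvd i
    have hs := key s (Nat.lt_succ_of_le (Nat.le_of_dvd (by norm_num) hsm)) hsm P.modp P.one_lt
    obtain ⟨c, hc'⟩ := P.dvd
    subst hs
    rw [hc', mul_assoc] at hri
    have hi : i ≤ 3 := Nat.le_of_dvd (by norm_num) ⟨c, by linarith⟩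
    have hf : 2 * Nat.card G ∣ Nat.factorial 3 :=
      P.factorial.trans (Nat.factorial_dvd_factorial hi)
    rw [h] at hf
    revert hf; decide +kernel

theorem false_4800 (hG : ¬ IsMulCommutative G) (h : Nat.card G = 4800) : False := by
  haveI : Fact (Nat.Prime 5) := ⟨by norm_num⟩
  have hm : Nat.card G = 5 ^ 2 * 192 := by rw [h]; norm_num
  have hmem := TwoGroups.SmallOrders.card_sylow_mem_cands hG hm (by norm_num) (by norm_num)
    (by norm_num)
  have hc : TwoGroups.SmallOrders.cands 5 2 192 = [16, 96] := by decide +kernel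
  rw [hc] at hmem
  obtain ⟨d, R, i, r, s, P, hri⟩ := exists_pinched hG hm (by norm_num) (by
    simp only [List.mem_cons, List.not_mem_nil, or_false] at hmem
    rcases hmem with e | e <;> rw [e] <;> decide)
  have hi10 : 10 ≤ i := by
    by_contra hlt
    have hf := P.factorial.trans (Nat.factorial_dvd_factorial (show i ≤ 9 by omega))
    rw [h] at hf
    revert hf; decide +kernel
  have hr20 : r < 20 := by nlinarith
  have hr0 : 0 < r := Nat.pos_of_ne_zero fun e => by rw [e, zero_mul] at hri; omega
  have hs20 : s < 20 := lt_of_le_of_lt (Nat.le_of_dvd hr0 P.dvd) hr20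
  have key : ∀ r < 20, ∀ s < 20, r ∣ 192 → s ∣ r → s % 5 = 1 → 1 < s →
      r = 6 ∧ s = 6 ∨ r = 12 ∧ s = 6 ∨ r = 16 ∧ s = 16 := by
    set_option synthInstance.maxSize 4000 in decide +kernel
  have hK := P.card
  have hcount := P.count
  rcases key r hr20 s hs20 ⟨i, hri.symm⟩ P.dvd P.modp P.one_lt with
    ⟨rfl, rfl⟩ | ⟨rfl, rfl⟩ | ⟨rfl, rfl⟩
  · obtain ⟨t, ht, ht5, hle⟩ := exists_le_card_sylow_of_two_mul (p := 5) (a := 2) (r := 3)
      (by norm_num) (by norm_num) (hK.trans (by norm_num))
    rw [hcount] at hle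
    have := Nat.le_of_dvd (by norm_num) ht
    omega
  · have hi : i = 16 := by omega
    subst hi
    have hb : ¬ 2 * Nat.card G ∣ (16 / 2).factorial := by rw [h]; decide +kernel
    obtain ⟨e, hle, hF⟩ := card_fused hG P hb
    rw [e] at hle hF
    exact false_of_no_others hG P (by omega)
  · have hi : i = 12 := by omega
    subst hi
    have hb : ¬ 2 * Nat.card G ∣ (12 / 2).factorial := by rw [h]; decide +kernel
    obtain ⟨e, hle, hF⟩ := card_fused hG P hb
    rw [e] at hle hF
    omega

theorem false_5400 (hG : ¬ IsMulCommutative G) (h : Nat.card G = 5400) : False := by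
  haveI : Fact (Nat.Prime 5) := ⟨by norm_num⟩
  have hm : Nat.card G = 5 ^ 2 * 216 := by rw [h]; norm_num
  have hmem := TwoGroups.SmallOrders.card_sylow_mem_cands hG hm (by norm_num) (by norm_num)
    (by norm_num)
  have hc : TwoGroups.SmallOrders.cands 5 2 216 = [36] := by decide +kernel
  rw [hc, List.mem_singleton] at hmem
  obtain ⟨d, R, i, r, s, P, hri⟩ := exists_pinched hG hm (by norm_num) (by
    rw [hmem]; decide)
  have hi10 : 10 ≤ i := by
    by_contra hlt
    have hf := P.factorial.trans (Nat.factorial_dvd_factorial (show i ≤ 9 by omega))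
    rw [h] at hf
    revert hf; decide +kernel
  have hr22 : r < 22 := by nlinarith
  have hr0 : 0 < r := Nat.pos_of_ne_zero fun e => by rw [e, zero_mul] at hri; omega
  have hs22 : s < 22 := lt_of_le_of_lt (Nat.le_of_dvd hr0 P.dvd) hr22
  have key : ∀ r < 22, ∀ s < 22, r ∣ 216 → s ∣ r → s % 5 = 1 → 1 < s →
      r = 6 ∧ s = 6 ∨ r = 12 ∧ s = 6 ∨ r = 18 ∧ s = 6 := by
    set_option synthInstance.maxSize 4000 in decide +kernel
  have hK := P.card
  have hcount := P.count
  rcases key r hr22 s hs22 ⟨i, hri.symm⟩ P.dvd P.modp P.one_lt with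
    ⟨rfl, rfl⟩ | ⟨rfl, rfl⟩ | ⟨rfl, rfl⟩
  · obtain ⟨t, ht, ht5, hle⟩ := exists_le_card_sylow_of_two_mul (p := 5) (a := 2) (r := 3)
      (by norm_num) (by norm_num) (hK.trans (by norm_num))
    rw [hcount] at hle
    have := Nat.le_of_dvd (by norm_num) ht
    omega
  · have hi : i = 18 := by omega
    subst hi
    have hb : ¬ 2 * Nat.card G ∣ (18 / 2).factorial := by rw [h]; decide +kernel
    obtain ⟨e, hle, hF⟩ := card_fused hG P hb
    rw [e] at hle hF
    exact false_of_two_others hG P hb (by omega) (by rw [e]; omega)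
  · obtain ⟨t, ht, ht5, hle⟩ := exists_le_card_sylow_of_two_mul (p := 5) (a := 2) (r := 9)
      (by norm_num) (by norm_num) (hK.trans (by norm_num))
    rw [hcount] at hle
    have hkey : ∀ t < 10, t ∣ 9 → t % 5 = 1 → t = 1 := by decide +kernel
    have := hkey t (Nat.lt_succ_of_le (Nat.le_of_dvd (by norm_num) ht)) ht ht5
    omega

theorem false_5880 (hG : ¬ IsMulCommutative G) (h : Nat.card G = 5880) : False := by
  haveI : Fact (Nat.Prime 7) := ⟨by norm_num⟩
  have hm : Nat.card G = 7 ^ 2 * 120 := by rw [h]; norm_num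
  have hmem := TwoGroups.SmallOrders.card_sylow_mem_cands hG hm (by norm_num) (by norm_num)
    (by norm_num)
  have hc : TwoGroups.SmallOrders.cands 7 2 120 = [15] := by decide +kernel
  rw [hc, List.mem_singleton] at hmem
  obtain ⟨d, R, i, r, s, P, hri⟩ := exists_pinched hG hm (by norm_num) (by
    rw [hmem]; decide)
  have hi14 : 14 ≤ i := by
    by_contra hlt
    have hf := P.factorial.trans (Nat.factorial_dvd_factorial (show i ≤ 13 by omega))
    rw [h] at hf
    revert hf; decide +kernel
  have hr9 : r < 9 := by nlinarith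
  have hr0 : 0 < r := Nat.pos_of_ne_zero fun e => by rw [e, zero_mul] at hri; omega
  have hs9 : s < 9 := lt_of_le_of_lt (Nat.le_of_dvd hr0 P.dvd) hr9
  have key : ∀ r < 9, ∀ s < 9, 0 < r → s ∣ r → s % 7 = 1 → 1 < s → r = 8 ∧ s = 8 := by
    set_option synthInstance.maxSize 4000 in decide +kernel
  obtain ⟨rfl, rfl⟩ := key r hr9 s hs9 hr0 P.dvd P.modp P.one_lt
  have hi : i = 15 := by omega
  subst hi
  have hb : ¬ 2 * Nat.card G ∣ (15 / 2).factorial := by rw [h]; decide +kernel
  obtain ⟨e, hle, hF⟩ := card_fused hG P hb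
  rw [e] at hle hF
  exact false_of_no_others hG P (by omega)

theorem false_3780 (hG : ¬ IsMulCommutative G) (h : Nat.card G = 3780) : False := by
  haveI : Fact (Nat.Prime 7) := ⟨by norm_num⟩
  haveI : Fact (Nat.Prime 5) := ⟨by norm_num⟩
  have hm : Nat.card G = 7 ^ 1 * 540 := by rw [h]; norm_num
  have hmem := TwoGroups.SmallOrders.card_sylow_mem_cands hG hm (by norm_num) (by norm_num)
    (by norm_num)
  have hc : TwoGroups.SmallOrders.cands 7 1 540 = [15, 36] := by decide +kernel
  rw [hc] at hmem
  simp only [List.mem_cons, List.not_mem_nil, or_false] at hmem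
  rcases hmem with hk | hk
  · exact false_of_killNumber hG (p := 7) (m := 540) (by norm_num) (by rw [h]) (by norm_num)
      (by norm_num) (by rw [h]; norm_num) hk (by rw [h]; decide +kernel)
  obtain ⟨P⟩ := (inferInstance : Nonempty (Sylow 7 G))
  have hP : Nat.card (P : Subgroup G) = 7 := by
    rw [sylow_card_eq P hm (by norm_num), pow_one]
  have hN : Nat.card (normalizer ((P : Subgroup G) : Set G)) = 7 * 15 := by
    have := card_normalizer_mul_card_sylow P
    rw [hk, h] at this
    omega
  obtain ⟨e, he15, he6, he1, hC⟩ := TwoGroups.SmallOrders.exists_card_centralizer P hP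
    (not_isPGroup_of_dvd (q := 2) Nat.prime_two (by norm_num) (by rw [h]; norm_num)) hN
  have he : e = 3 := by
    have hd : e ∣ 3 := Nat.dvd_gcd he15 he6
    rcases (Nat.dvd_prime Nat.prime_three).1 hd with e0 | e0
    · exact absurd e0 he1
    · exact e0
  subst he
  set C := centralizer ((P : Subgroup G) : Set G) with hCdef
  have hC35 : Nat.card C = 35 := by omega
  obtain ⟨z, hz⟩ := exists_prime_orderOf_dvd_card' (G := C) 5 (by rw [hC35]; norm_num)
  have hm5 : Nat.card G = 5 ^ 1 * 756 := by rw [h]; norm_num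
  obtain ⟨Q, hQ⟩ := exists_mem_sylow_of_orderOf (p := 5) (k := 1) (g := (z : G))
    (by rw [Subgroup.orderOf_coe, hz, pow_one])
  have hQc : Nat.card (Q : Subgroup G) = 5 := by rw [sylow_card_eq Q hm5 (by norm_num), pow_one]
  have hQz : (Q : Subgroup G) = zpowers (z : G) :=
    (eq_of_le_of_card_ge (zpowers_le.2 hQ)
      (by rw [hQc, Nat.card_zpowers, Subgroup.orderOf_coe, hz])).symm
  have hle : (P : Subgroup G) ≤ normalizer ((Q : Subgroup G) : Set G) := fun x hx => by
    refine centralizer_le_normalizer _ ?_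
    rw [hQz, zpowers_eq_closure, centralizer_closure]
    exact mem_centralizer_singleton_iff.2 ((mem_centralizer_iff.1 z.2) x hx)
  have h7 : 7 ∣ Nat.card (normalizer ((Q : Subgroup G) : Set G)) := hP ▸ card_dvd_of_le hle
  have hmem5 := TwoGroups.SmallOrders.card_sylow_mem_cands hG hm5 (by norm_num) (by norm_num)
    (by norm_num)
  have hc5 : TwoGroups.SmallOrders.cands 5 1 756 = [21, 126] := by decide +kernel
  rw [hc5] at hmem5
  simp only [List.mem_cons, List.not_mem_nil, or_false] at hmem5
  have hprod := card_normalizer_mul_card_sylow Q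
  rw [h] at hprod
  rcases hmem5 with e5 | e5 <;> rw [e5] at hprod <;> omega

theorem false_5460 (hG : ¬ IsMulCommutative G) (h : Nat.card G = 5460) : False := by
  haveI : Fact (Nat.Prime 13) := ⟨by norm_num⟩
  have hm : Nat.card G = 13 ^ 1 * 420 := by rw [h]; norm_num
  have hmem := TwoGroups.SmallOrders.card_sylow_mem_cands hG hm (by norm_num) (by norm_num)
    (by norm_num)
  have hc : TwoGroups.SmallOrders.cands 13 1 420 = [14, 105] := by decide +kernel
  rw [hc] at hmem
  simp only [List.mem_cons, List.not_mem_nil, or_false] at hmem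
  rcases hmem with hk | hk
  · exact false_of_killNumber hG (p := 13) (m := 420) (by norm_num) (by rw [h]) (by norm_num)
      (by norm_num) (by rw [h]; norm_num) hk (by rw [h]; decide +kernel)
  obtain ⟨P⟩ := (inferInstance : Nonempty (Sylow 13 G))
  have hP : Nat.card (P : Subgroup G) = 13 := by
    rw [sylow_card_eq P hm (by norm_num), pow_one]
  have hN : Nat.card (normalizer ((P : Subgroup G) : Set G)) = 13 * 4 := by
    have := card_normalizer_mul_card_sylow P
    rw [hk, h] at this
    omega
  obtain ⟨e, he4, -, he1, hC⟩ := TwoGroups.SmallOrders.exists_card_centralizer P hP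
    (not_isPGroup_of_dvd (q := 2) Nat.prime_two (by norm_num) (by rw [h]; norm_num)) hN
  set C := centralizer ((P : Subgroup G) : Set G) with hCdef
  have hrel : C.relIndex (normalizer ((P : Subgroup G) : Set G)) = e := by
    have h0 := index_mul_card (C.subgroupOf (normalizer ((P : Subgroup G) : Set G)))
    rw [Nat.card_congr (subgroupOfEquivOfLe (centralizer_le_normalizer _)).toEquiv, hN, ← hC,
      mul_comm _ e] at h0
    exact Nat.eq_of_mul_eq_mul_right Nat.card_pos h0
  have key : ∀ e < 5, e ∣ 4 → e ≠ 1 → e = 2 ∨ e = 4 := by decide +kernel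
  rcases key e (Nat.lt_succ_of_le (Nat.le_of_dvd (by norm_num) he4)) he4 he1 with rfl | rfl
  · haveI := Fintype.ofFinite G
    haveI : Fact (Nat.Prime 2) := ⟨Nat.prime_two⟩
    obtain ⟨v, hv⟩ := exists_prime_orderOf_dvd_card' (G := C) 2 (by
      have : Nat.card C = 26 := by omega
      rw [this]; norm_num)
    exact false_of_checkDegree hG (p := 13) (q := 2) (r := 7) Nat.prime_two (by norm_num)
      (by norm_num) (by norm_num) (by rw [h]; norm_num) P hP hrel (by rw [h]; norm_num) v.2
      (by rw [Subgroup.orderOf_coe, hv]) (by rw [h]; decide +kernel)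
  · have hCP : C = (P : Subgroup G) := by
      refine (eq_of_le_of_card_ge ?_ ?_).symm
      · intro x hx
        have hcyc : IsCyclic (P : Subgroup G) := isCyclic_of_prime_card hP
        exact mem_centralizer_iff.2 fun y hy => congrArg Subtype.val
          ((hcyc.isMulCommutative).is_comm.comm (⟨y, hy⟩ : (P : Subgroup G)) ⟨x, hx⟩)
      · rw [hP]; omega
    haveI := Fintype.ofFinite G
    obtain ⟨a, e, t, n, F⟩ :=
      FewSylow.exists_frame P hP hCP (ThreePrimeOrder.perfect_of_nc hG)
    have he : e = 4 := by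
      have := F.cardN
      rw [hN] at this
      omega
    subst he
    haveI : Fact (Nat.Prime 2) := ⟨Nat.prime_two⟩
    obtain ⟨T, hT⟩ := exists_mem_sylow_of_orderOf (p := 2) (k := 2) (g := a) F.ord
    have hK := (Cfsg.Agent.S0992.result hG (by rw [h]; exact ⟨2730, rfl⟩)
      (by rw [h]; norm_num) T).1
    have h2 := hK.exponent_two
    have := Monoid.order_dvd_exponent (⟨a, hT⟩ : (T : Subgroup G))
    rw [h2, Subgroup.orderOf_mk, F.ord] at this
    norm_num at this

theorem false_4960 (hG : ¬ IsMulCommutative G) (h : Nat.card G = 4960) : False := by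
  classical
  haveI : Fact (Nat.Prime 31) := ⟨by norm_num⟩
  have hm : Nat.card G = 31 ^ 1 * 160 := by rw [h]; norm_num
  have hmem := TwoGroups.SmallOrders.card_sylow_mem_cands hG hm (by norm_num) (by norm_num)
    (by norm_num)
  have hc : TwoGroups.SmallOrders.cands 31 1 160 = [32] := by decide +kernel
  rw [hc, List.mem_singleton] at hmem
  obtain ⟨P⟩ := (inferInstance : Nonempty (Sylow 31 G))
  have hP : Nat.card (P : Subgroup G) = 31 := by
    rw [sylow_card_eq P hm (by norm_num), pow_one]
  have hN : Nat.card (normalizer ((P : Subgroup G) : Set G)) = 31 * 5 := by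
    have := card_normalizer_mul_card_sylow P
    rw [hmem, h] at this
    omega
  obtain ⟨e, he5, -, he1, hC⟩ := TwoGroups.SmallOrders.exists_card_centralizer P hP
    (not_isPGroup_of_dvd (q := 2) Nat.prime_two (by norm_num) (by rw [h]; norm_num)) hN
  have he : e = 5 := ((Nat.dvd_prime (by norm_num)).1 he5).resolve_left he1
  subst he
  have hCP : centralizer ((P : Subgroup G) : Set G) = (P : Subgroup G) := by
    refine (eq_of_le_of_card_ge ?_ ?_).symm
    · intro x hx
      have hcyc : IsCyclic (P : Subgroup G) := isCyclic_of_prime_card hP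
      exact mem_centralizer_iff.2 fun y hy => congrArg Subtype.val
        ((hcyc.isMulCommutative).is_comm.comm (⟨y, hy⟩ : (P : Subgroup G)) ⟨x, hx⟩)
    · rw [hP]; omega
  haveI := Fintype.ofFinite G
  haveI := Fintype.ofFinite (IrrCharacter G)
  have hperf := ThreePrimeOrder.perfect_of_nc hG
  obtain ⟨a, e, t, n, F⟩ := FewSylow.exists_frame P hP hCP hperf
  have he : e = 5 := by
    have := F.cardN
    rw [hN] at this
    omega
  subst he
  obtain ⟨X, Y, εX, ε, -, hTX, hT1, hXc, hYc, hX, hε, -, -, hrel, -⟩ := FewSylow.exists_values F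
  have het := F.et
  obtain ⟨θ, hθ⟩ : Y.Nonempty := Finset.card_pos.1 (by omega)
  have hsmall : ∀ χ : IrrCharacter G, charDegree (χ : G → ℂ) ≤ 70 := fun χ => by
    have hsum : ∑ ψ : IrrCharacter G, charDegree (ψ : G → ℂ) ^ 2 = Nat.card G := by
      rw [← Nat.cast_inj (R := ℂ), Nat.cast_sum, ← sum_sq_degree]
      exact Finset.sum_congr rfl fun ψ _ => by rw [apply_one_eq_charDegree, Nat.cast_pow]
    have h2 := Finset.single_le_sum
      (f := fun ψ : IrrCharacter G => charDegree (ψ : G → ℂ) ^ 2)
      (fun _ _ => Nat.zero_le _) (Finset.mem_univ χ)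
    rw [hsum, h] at h2
    by_contra hlt
    have : 71 ^ 2 ≤ charDegree (χ : G → ℂ) ^ 2 := Nat.pow_le_pow_left (by omega) 2
    omega
  have key : ∀ d < 71, d ∣ 4960 → d ≠ 1 → (d % 31 = 1 ∨ d % 31 = 30) → d = 32 := by
    decide +kernel
  have hval : ∀ χ ∈ X, (εX χ : ℂ) * (χ : G → ℂ) 1 = if χ = trivChar G then 1 else 32 := by
    intro χ hχ
    split_ifs with hT
    · subst hT; rw [hT1, trivChar_apply]; simp
    obtain ⟨hs, hmod, -⟩ := hX χ hχ
    have hne : charDegree (χ : G → ℂ) ≠ 1 := fun e => hT (FewSylow.eq_trivChar hperf χ e)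
    have hd : charDegree (χ : G → ℂ) = 32 := by
      refine key _ (Nat.lt_succ_of_le (hsmall χ)) (h ▸ charDegree_dvd_card χ) hne ?_
      unfold Int.ModEq at hmod
      rcases hs with e | e <;> rw [e] at hmod <;> norm_num at hmod <;> omega
    rw [hd] at hmod
    have he' : εX χ = 1 := by
      rcases hs with e | e
      · exact e
      · rw [e] at hmod; exact absurd hmod (by decide)
    rw [he', apply_one_eq_charDegree, hd]
    simp
  have hg := hrel θ hθ 1 (by rw [orderOf_one]; norm_num)
  rw [Finset.sum_congr rfl hval, ← Finset.add_sum_erase _ _ hTX, if_pos rfl,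
    Finset.sum_congr rfl (fun χ hχ => if_neg (Finset.ne_of_mem_erase hχ)), Finset.sum_const,
    Finset.card_erase_of_mem hTX, hXc, apply_one_eq_charDegree, nsmul_eq_mul] at hg
  norm_num at hg
  have hθle := hsmall θ
  rcases hε with e | e <;> rw [e] at hg <;> norm_num at hg
  · have : charDegree (θ : G → ℂ) = 129 := by exact_mod_cast hg
    omega
  · have h0 : ((charDegree (θ : G → ℂ) : ℕ) : ℂ) = ((-129 : ℤ) : ℂ) := by
      push_cast; linear_combination -hg
    have h1 : (charDegree (θ : G → ℂ) : ℤ) = -129 := by exact_mod_cast h0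
    omega

end CfsgLib.Perm.SimpleOrders
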