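import Cfsg.Agent.Lib.Perm.SimpleOrders.Range
import Cfsg.Agent.Lib.Perm.SimpleOrders.GapBlock
import Cfsg.Agent.S0496
import Cfsg.Agent.S0983
import Cfsg.Agent.S1015
import Cfsg.Agent.S1016

/-!
# The orders of the non-abelian simple groups below six thousand
-/

set_option autoImplicit false

namespace CfsgLib.Perm.SimpleOrders

/-- The orders between 1093 and 3640 which the general tests leave open. -/
def openGap : List ℕ :=
  [1200, 1344, 1404, 1440, 1512, 1620, 1680, 1716, 1800, 2100, 2160, 2400, 2448, 2520, 2700, 2880,
    2976, 3120, 3240, 3360, 3420, 3528, 3600]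

/-- One of the tests settles `n`, or `n` is on the list of the gap. -/
def settledGap (n : ℕ) : Bool :=
  n % 4 == 2 || twoPrimesB n || (primesOf n).any (killPrime n) || openGap.contains n

/-- The tests on the two hundred orders from `lo` on. -/
def settledGapFrom (lo : ℕ) : Bool :=
  (List.range 200).all fun i => settledGap (lo + i)

theorem settledGapFrom_1093 : settledGapFrom 1093 = true := by decide +kernel
theorem settledGapFrom_1293 : settledGapFrom 1293 = true := by decide +kernel
theorem settledGapFrom_1493 : settledGapFrom 1493 = true := by decide +kernel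
theorem settledGapFrom_1693 : settledGapFrom 1693 = true := by decide +kernel
theorem settledGapFrom_1893 : settledGapFrom 1893 = true := by decide +kernel
theorem settledGapFrom_2093 : settledGapFrom 2093 = true := by decide +kernel
theorem settledGapFrom_2293 : settledGapFrom 2293 = true := by decide +kernel
theorem settledGapFrom_2493 : settledGapFrom 2493 = true := by decide +kernel
theorem settledGapFrom_2693 : settledGapFrom 2693 = true := by decide +kernel
theorem settledGapFrom_2893 : settledGapFrom 2893 = true := by decide +kernel
theorem settledGapFrom_3093 : settledGapFrom 3093 = true := by decide +kernel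
theorem settledGapFrom_3293 : settledGapFrom 3293 = true := by decide +kernel
theorem settledGapFrom_3441 : settledGapFrom 3441 = true := by decide +kernel

/-- The tests settle every order between 1093 and 3640. -/
theorem settledGap_of_range {n : ℕ} (h1 : 1092 < n) (h2 : n ≤ 3640) : settledGap n = true := by
  have key : ∀ lo, settledGapFrom lo = true → lo ≤ n → n < lo + 200 → settledGap n = true := by
    intro lo h hlo hhi
    rw [settledGapFrom, List.all_eq_true] at h
    have := h (n - lo) (List.mem_range.2 (by omega))
    rwa [Nat.add_sub_cancel' hlo] at this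
  rcases Nat.lt_or_ge n 1293 with h | h
  · exact key 1093 settledGapFrom_1093 (by omega) h
  rcases Nat.lt_or_ge n 1493 with h | h
  · exact key 1293 settledGapFrom_1293 (by omega) h
  rcases Nat.lt_or_ge n 1693 with h | h
  · exact key 1493 settledGapFrom_1493 (by omega) h
  rcases Nat.lt_or_ge n 1893 with h | h
  · exact key 1693 settledGapFrom_1693 (by omega) h
  rcases Nat.lt_or_ge n 2093 with h | h
  · exact key 1893 settledGapFrom_1893 (by omega) h
  rcases Nat.lt_or_ge n 2293 with h | h
  · exact key 2093 settledGapFrom_2093 (by omega) h
  rcases Nat.lt_or_ge n 2493 with h | h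
  · exact key 2293 settledGapFrom_2293 (by omega) h
  rcases Nat.lt_or_ge n 2693 with h | h
  · exact key 2493 settledGapFrom_2493 (by omega) h
  rcases Nat.lt_or_ge n 2893 with h | h
  · exact key 2693 settledGapFrom_2693 (by omega) h
  rcases Nat.lt_or_ge n 3093 with h | h
  · exact key 2893 settledGapFrom_2893 (by omega) h
  rcases Nat.lt_or_ge n 3293 with h | h
  · exact key 3093 settledGapFrom_3093 (by omega) h
  rcases Nat.lt_or_ge n 3493 with h | h
  · exact key 3293 settledGapFrom_3293 (by omega) h
  exact key 3441 settledGapFrom_3441 (by omega) (by omega)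

/-- A non-abelian simple group of order less than six thousand has one of eleven orders. -/
theorem orders_lt_six_thousand {G : Type*} [Group G] [Finite G] [IsSimpleGroup G]
    (hG : ¬ IsMulCommutative G) (hlt : Nat.card G < 6000) :
    Nat.card G ∈ [60, 168, 360, 504, 660, 1092, 2448, 2520, 3420, 4080, 5616] := by
  simp only [List.mem_cons, List.not_mem_nil, or_false]
  rcases Nat.lt_or_ge 1092 (Nat.card G) with h1 | h1
  swap
  · rcases Cfsg.Agent.S0496.result hG h1 with h | h | h | h | h | h <;> simp [h]
  rcases Nat.lt_or_ge 3640 (Nat.card G) with h2 | h2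
  · rcases Cfsg.Agent.S0983.result hG h2 (by omega) with h | h | h | h
    · simp [h]
    · simp [h]
    · omega
    · omega
  have h := settledGap_of_range h1 h2
  simp only [settledGap, Bool.or_eq_true, beq_iff_eq, List.any_eq_true, openGap, List.contains_eq_mem,
    decide_eq_true_eq, List.mem_cons, List.not_mem_nil, or_false] at h
  rcases h with ((h | h) | ⟨p, -, hp⟩) | h
  · exact (TwoGroups.SmallOrders.false_of_two_mod_four hG h).elim
  · exact (false_of_twoPrimesB hG h).elim
  · exact (false_of_killPrime hG rfl hp).elim
  rcases h with h | h | h | h | h | h | h | h | h | h | h | h | h | h | h | h | h | h | h | h | h | h | h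
  · exact absurd h Cfsg.Agent.S1015.result
  · exact (false_1344_2976 hG (Or.inl h)).elim
  · exact (false_1404_1716 hG (Or.inl h)).elim
  · exact absurd h Cfsg.Agent.S1016.result
  · exact (false_1512 hG h).elim
  · exact (false_1620 hG h).elim
  · exact (false_1680 hG h).elim
  · exact (false_1404_1716 hG (Or.inr h)).elim
  · exact (false_1800_2400_2700 hG (Or.inl h)).elim
  · exact (false_2100 hG h).elim
  · exact (false_2160 hG h).elim
  · exact (false_1800_2400_2700 hG (Or.inr (Or.inl h))).elim
  · simp [h]
  · simp [h]
  · exact (false_1800_2400_2700 hG (Or.inr (Or.inr h))).elim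
  · exact (false_2880_3240 hG (Or.inl h)).elim
  · exact (false_1344_2976 hG (Or.inr h)).elim
  · exact (false_3120 hG h).elim
  · exact (false_2880_3240 hG (Or.inr h)).elim
  · exact (false_3360 hG h).elim
  · simp [h]
  · exact (false_3528 hG h).elim
  · exact (false_3600 hG h).elim

end CfsgLib.Perm.SimpleOrders
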