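import Cfsg.Agent.Lib.TwoGroups.SmallOrders.Filter
import Cfsg.Agent.Lib.TwoGroups.SmallOrders.Easy
import Cfsg.Agent.Lib.Perm.ThreePrimeOrder.Five
import Cfsg.Agent.Lib.Perm.DihedralNormalizer
import Cfsg.Agent.Lib.Perm.PrimeOrderCount

/-!
# Excluding orders of simple groups by a Sylow subgroup of prime order

A Boolean test `killPrime n p` and its soundness: a simple group of order `n` has no possible
number of Sylow `p`-subgroups. The tests use fixed Sylow subgroups of an element centralizing
a Sylow subgroup, degrees in the principal `p`-block, and the dihedral normalizer equation.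
-/

set_option autoImplicit false

namespace CfsgLib.Perm.SimpleOrders

open Cfsg CfsgLib.Char CfsgLib.Blocks Subgroup CfsgLib.Perm
open scoped Classical

/-! ### Boolean tests -/

/-- Trial division primality, valid below `80 ^ 2`. -/
def primeB (r : ℕ) : Bool :=
  2 ≤ r && r < 6400 && (List.range 80).all (fun i => i < 2 || r < i * i || r % i != 0)

/-- The primes below `80`. -/
def primes80 : List ℕ :=
  [2, 3, 5, 7, 11, 13, 17, 19, 23, 29, 31, 37, 41, 43, 47, 53, 59, 61, 67, 71, 73, 79]

/-- What is left of `n` without its primes below `80`. -/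
def bigRest (n : ℕ) : ℕ :=
  primes80.foldl (fun r p => (TwoGroups.SmallOrders.strip p 13 r).2) n

/-- The prime divisors of `n`, the largest first. -/
def primesOf (n : ℕ) : List ℕ :=
  (bigRest n :: primes80.reverse).filter fun q => 2 ≤ q && n % q == 0

/-- The fixed Sylow test for an element of order `q` centralizing one of `k` Sylow subgroups. -/
def checkFixed (n p q k : ℕ) : Bool :=
  (List.range (k + 1)).all fun F => F % p != 1 || F == k ||
    (if q == 2 then (k - F) % 4 != 0 else (k - F) % q != 0) ||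
    (k < p * (F - 1) + 1 && n % F != 0)

/-- A possible degree prime to `r` in the principal block. -/
def degOK (n p r e d : ℕ) : Bool :=
  2 ≤ d && n % d == 0 && d % p != 0 && d % r != 0 &&
    (d % p == 1 || d % p == p - 1 || d % p == e % p || d % p == p - e % p)

/-- All possible degrees prime to `r` are less than `b`. -/
def checkDegree (n p r e b : ℕ) : Bool :=
  (List.range 80).all fun d => !degOK n p r e d || d < b

/-- The dihedral normalizer equation has no solution. -/
def checkDihedral (n p : ℕ) : Bool :=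
  (List.range (n + 1)).all fun d => d < 2 || n % d != 0 ||
    ((d % p != 1 || n % (d + 1) != 0 ||
        Nat.sqrt (n * p * (d * (d + 1))) * Nat.sqrt (n * p * (d * (d + 1))) != n * p * (d * (d + 1))) &&
      (d % p != p - 1 || n % (d - 1) != 0 ||
        Nat.sqrt (n * p * (d * (d - 1))) * Nat.sqrt (n * p * (d * (d - 1))) != n * p * (d * (d - 1))))

/-- The centralizer of order `p c` with automizer of order `e` is impossible. -/
def killCentralizer (n p k e c : ℕ) : Bool :=
  ((primesOf n).any fun q => primeB q && c % q == 0 && q != p &&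
      (checkFixed n p q k ||
        (primesOf n).any fun r => primeB r && checkDegree n p r e (if q == 2 then 2 * p else p))) ||
    ((primesOf n).any fun r => primeB r && checkDegree n p r e 0) ||
    (e == 2 && c == 1 && checkDihedral n p)

/-- The Sylow number `k` is impossible. -/
def killNumber (n p m k : ℕ) : Bool :=
  (k == p + 1 && (p - 1) % (2 * (m / k)) != 0) ||
    (List.range p).all fun e => e < 2 || (p - 1) % e != 0 || (m / k) % e != 0 ||
      killCentralizer n p k e (m / k / e)

/-- There is no possible Sylow number for `p`. -/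
def killPrime (n p : ℕ) : Bool :=
  let s := TwoGroups.SmallOrders.strip p 13 n
  primeB p && p ^ s.1 * s.2 == n && s.1 != 0 && s.2 % p != 0 && s.2 != 1 &&
    ((TwoGroups.SmallOrders.cands p s.1 s.2).isEmpty ||
      (5 ≤ p && s.1 == 1 && n < 6400 &&
        (TwoGroups.SmallOrders.cands p s.1 s.2).all (killNumber n p s.2)))

/-! ### Soundness -/

theorem prime_of_primeB {r : ℕ} (h : primeB r = true) : r.Prime := by
  simp only [primeB, Bool.and_eq_true, decide_eq_true_eq, List.all_eq_true, List.mem_range,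
    Bool.or_eq_true, bne_iff_ne] at h
  obtain ⟨⟨h2, hlt⟩, hall⟩ := h
  rw [Nat.prime_def_le_sqrt]
  refine ⟨h2, fun m hm hms hd => ?_⟩
  have hmm : m * m ≤ r := Nat.le_sqrt.1 hms
  have hm80 : m < 80 := by nlinarith
  rcases hall m hm80 with (h' | h') | h'
  · omega
  · omega
  · exact h' (Nat.mod_eq_zero_of_dvd hd)

variable {G : Type*} [Group G] [Finite G] [IsSimpleGroup G]

/-- An element fixing every Sylow subgroup is trivial. -/
theorem eq_one_of_fixes_all {p : ℕ} [Fact p.Prime] (h1 : Nat.card (Sylow p G) ≠ 1) {z : G}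
    (hall : Nat.card (fixedSylows p z) = Nat.card (Sylow p G)) : z = 1 := by
  have hfix : ∀ S : Sylow p G, z • S = S := fun S => by
    obtain ⟨T, rfl⟩ := ((Nat.bijective_iff_injective_and_card
      (Subtype.val : fixedSylows p z → Sylow p G)).2 ⟨Subtype.val_injective, hall⟩).2 S
    exact T.2
  have hmem : z ∈ (MulAction.toPermHom G (Sylow p G)).ker := by
    rw [MonoidHom.mem_ker]; exact Equiv.ext hfix
  rcases (MonoidHom.normal_ker (MulAction.toPermHom G (Sylow p G))).eq_bot_or_eq_top with hb | ht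
  · rwa [hb, mem_bot] at hmem
  · haveI : Nontrivial (Sylow p G) := Finite.one_lt_card_iff_nontrivial.1 (by
      have : 0 < Nat.card (Sylow p G) := Nat.card_pos
      omega)
    obtain ⟨P⟩ := (inferInstance : Nonempty (Sylow p G))
    obtain ⟨R, hR⟩ := exists_ne P
    obtain ⟨g, hg⟩ := MulAction.exists_smul_eq G P R
    have hgk : g ∈ (MulAction.toPermHom G (Sylow p G)).ker := ht ▸ mem_top g
    exact absurd (hg.symm.trans
      (congrArg (fun f : Equiv.Perm (Sylow p G) => f P) (MonoidHom.mem_ker.1 hgk))) hR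

omit [IsSimpleGroup G] in
/-- If all fixed Sylow subgroups are centralised, their number divides the group order. -/
theorem card_fixedSylows_dvd {p : ℕ} [Fact p.Prime] (P : Sylow p G)
    (hall : ∀ R : Sylow p G, Nat.card (R : Subgroup G) = p) {z : G}
    (hz : z ∈ centralizer ((P : Subgroup G) : Set G))
    (hlarge : Nat.card (Sylow p G) < p * (Nat.card (fixedSylows p z) - 1) + 1) :
    Nat.card (fixedSylows p z) ∣ Nat.card G := by
  have hcent : ∀ R : Sylow p G, z • R = R → z ∈ centralizer ((R : Subgroup G) : Set G) := by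
    intro R hR
    by_contra hne
    have := card_fixedSylows_le R (hall R) hR hne
    omega
  set K := centralizer ({z} : Set G) with hK
  have hPK : (P : Subgroup G) ≤ K := fun x hx => by
    rw [hK, mem_centralizer_singleton_iff]
    exact (mem_centralizer_iff.1 hz) x hx
  have hQc : ∀ Q : Sylow p K, Nat.card ((Q : Subgroup K).map K.subtype) = p := fun Q => by
    rw [card_map_of_injective K.subtype_injective, card_sylow_congr Q (P.subtype hPK)]
    exact (Nat.card_congr (subgroupOfEquivOfLe hPK).toEquiv).trans (hall P)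
  let f : Sylow p K → fixedSylows p z := fun Q =>
    ⟨Sylow.ofCard ((Q : Subgroup K).map K.subtype) (by
      rw [hQc, ← P.card_eq_multiplicity, hall]), by
      refine Sylow.smul_eq_iff_mem_normalizer.2 (centralizer_le_normalizer _ ?_)
      rw [mem_centralizer_iff]
      rintro _ ⟨x, -, rfl⟩
      exact (mem_centralizer_singleton_iff.1 x.2)⟩
  have hf : Function.Injective f := fun Q Q' e => by
    have h1 : (Q : Subgroup K).map K.subtype = (Q' : Subgroup K).map K.subtype :=
      congrArg (fun w : fixedSylows p z => ((w.1 : Sylow p G) : Subgroup G)) e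
    exact Sylow.ext (map_injective K.subtype_injective h1)
  have heq : Nat.card (fixedSylows p z) = Nat.card (Sylow p K) :=
    le_antisymm (card_fixedSylows_le_centralizer hcent) (Nat.card_le_card_of_injective f hf)
  rw [heq]
  exact (card_sylow_dvd_card p).trans (card_subgroup_dvd_card K)

theorem false_of_checkFixed (hG : ¬ IsMulCommutative G) {p q k : ℕ} [Fact p.Prime] (hq : q.Prime)
    (P : Sylow p G) (hall : ∀ R : Sylow p G, Nat.card (R : Subgroup G) = p)
    (hk : Nat.card (Sylow p G) = k) (hk1 : k ≠ 1) {z : G}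
    (hz : z ∈ centralizer ((P : Subgroup G) : Set G)) (hzq : orderOf z = q)
    (hchk : checkFixed (Nat.card G) p q k = true) : False := by
  have hz1 : z ≠ 1 := fun e => by rw [e, orderOf_one] at hzq; exact hq.ne_one hzq.symm
  have hFle : Nat.card (fixedSylows p z) ≤ k :=
    hk ▸ Nat.card_le_card_of_injective _ Subtype.val_injective
  have hFp := card_fixedSylows_modEq P (hall P) hz
  have hFq : if q = 2 then (k - Nat.card (fixedSylows p z)) % 4 = 0
      else (k - Nat.card (fixedSylows p z)) % q = 0 := by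
    split_ifs with h2
    · have h4 := (card_fixedSylows_four (p := p) hG (z := z)
        (by rw [← pow_two, ← h2, ← hzq, pow_orderOf_eq_one])).1
      rw [hk] at h4
      exact Nat.mod_eq_zero_of_dvd h4
    · haveI := Fact.mk hq
      have hgrp : IsPGroup q (zpowers z) :=
        IsPGroup.of_card (n := 1) (by rw [Nat.card_zpowers, hzq, pow_one])
      have h3 := hgrp.card_modEq_card_fixedPoints (Sylow p G)
      have he : Nat.card (MulAction.fixedPoints (zpowers z) (Sylow p G)) =
          Nat.card (fixedSylows p z) := by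
        refine Nat.card_congr (Equiv.subtypeEquivRight fun S => ⟨fun h => h ⟨z, mem_zpowers z⟩,
          fun h u => ?_⟩)
        have := zpowers_le.2
          (MulAction.mem_stabilizer_iff.2 h : z ∈ MulAction.stabilizer G S) u.2
        exact MulAction.mem_stabilizer_iff.1 this
      rw [he, hk] at h3
      exact Nat.mod_eq_zero_of_dvd ((Nat.modEq_iff_dvd' hFle).1 h3.symm)
  simp only [checkFixed, List.all_eq_true, List.mem_range, Bool.or_eq_true, Bool.and_eq_true,
    decide_eq_true_eq, bne_iff_ne, beq_iff_eq] at hchk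
  rcases hchk _ (Nat.lt_succ_of_le hFle) with ((h | h) | h) | ⟨h, h'⟩
  · exact h hFp
  · exact hz1 (eq_one_of_fixes_all (hk ▸ hk1) (hk ▸ h))
  · by_cases h2 : q = 2 <;> simp only [h2, if_true, if_false] at h hFq <;>
      simp_all
  · exact h' (Nat.mod_eq_zero_of_dvd (card_fixedSylows_dvd P hall hz (hk ▸ h)))

/-- The residue of a degree congruent to a small integer. -/
theorem mod_of_modEq {d p a : ℕ} (ha : a < p) (h : (d : ℤ) ≡ (a : ℤ) [ZMOD p]) : d % p = a :=
  Eq.trans (Int.natCast_modEq_iff.1 h) (Nat.mod_eq_of_lt ha)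

/-- A principal block character of degree prime to `r` fitting the test. -/
theorem exists_degOK [Fintype G] (hG : ¬ IsMulCommutative G) {p r : ℕ} [Fact p.Prime]
    (hr : r.Prime) (hp2 : p ≠ 2) (hsq : ¬ p * p ∣ Nat.card G) (P : Sylow p G)
    (hP : Nat.card (P : Subgroup G) = p) {M : Ideal AlgInt} [M.IsPrime] (hM : IsPModular p M)
    {y : G} (hy : orderOf y = p) (hyP : y ∈ (P : Subgroup G)) {e : ℕ}
    (he : (centralizer ((P : Subgroup G) : Set G)).relIndex
      (normalizer ((P : Subgroup G) : Set G)) = e) (hsmall : Nat.card G < 6400) :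
    ∃ χ : IrrCharacter G, χ ∈ principalBlock M G ∧ charDegree (χ : G → ℂ) ≠ 1 ∧
      charDegree (χ : G → ℂ) < 80 ∧
      degOK (Nat.card G) p r e (charDegree (χ : G → ℂ)) = true := by
  have hp : p.Prime := Fact.out
  obtain ⟨χ, hB, h1, hrd, hpd, -⟩ := ThreePrimeOrder.exists_nonvanishing
    (ThreePrimeOrder.perfect_of_nc hG) hp hsq hr hM hy
  have hPy : (P : Subgroup G) = zpowers y :=
    (eq_of_le_of_card_ge (zpowers_le.2 hyP) (by rw [hP, Nat.card_zpowers, hy])).symm
  have hidx : ¬ p ∣ (P : Subgroup G).index := fun h => hsq (by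
    rw [← card_mul_index (P : Subgroup G), hP]; exact mul_dvd_mul_left p h)
  obtain ⟨V, hV⟩ := CfsgLib.Blocks.PrimeSylow.exists_setup hP hidx
  haveI := Fintype.ofFinite V
  haveI := Fintype.ofFinite (P : Subgroup G)
  haveI := Fintype.ofFinite (IrrCharacter G)
  obtain ⟨-, X, Y, hun, -, -, -, εX, ε, hX, hε, hY, -, -⟩ := hV.exists_principal hM he
  have hep : e ∣ p - 1 := he ▸ relIndex_centralizer_dvd_sub_one (P : Subgroup G) hP
  have hp2' := hp.two_le
  have helt : e < p := by
    have := Nat.le_of_dvd (by omega) hep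
    omega
  have he0 : 0 < e := Nat.pos_of_dvd_of_pos hep (by omega)
  have hd0 : charDegree (χ : G → ℂ) ≠ 0 := (CfsgLib.CharDegree.charDegree_pos χ).ne'
  have hd80 : charDegree (χ : G → ℂ) < 80 := by
    have h : ∑ ψ : IrrCharacter G, charDegree (ψ : G → ℂ) ^ 2 = Nat.card G := by
      rw [← Nat.cast_inj (R := ℂ), Nat.cast_sum, ← sum_sq_degree]
      exact Finset.sum_congr rfl fun ψ _ => by rw [apply_one_eq_charDegree, Nat.cast_pow]
    have h2 := Finset.single_le_sum (f := fun ψ : IrrCharacter G => charDegree (ψ : G → ℂ) ^ 2)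
      (fun _ _ => Nat.zero_le _) (Finset.mem_univ χ)
    rw [h] at h2
    by_contra hlt
    have : 80 ^ 2 ≤ charDegree (χ : G → ℂ) ^ 2 := Nat.pow_le_pow_left (by omega) 2
    omega
  refine ⟨χ, hB, h1, hd80, ?_⟩
  simp only [degOK, Bool.and_eq_true, decide_eq_true_eq, beq_iff_eq, bne_iff_ne, Bool.or_eq_true]
  refine ⟨⟨⟨⟨by omega, Nat.mod_eq_zero_of_dvd (charDegree_dvd_card χ)⟩,
    fun h => hpd (Nat.dvd_of_mod_eq_zero h)⟩, fun h => hrd (Nat.dvd_of_mod_eq_zero h)⟩, ?_⟩
  rw [Nat.mod_eq_of_lt helt]
  rw [hun] at hB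
  rcases hB with h | h
  · obtain ⟨hs, hm, -⟩ := hX χ h
    rcases hs with e1 | e1 <;> rw [e1] at hm
    · exact Or.inl (Or.inl (Or.inl (mod_of_modEq (by omega) (by exact_mod_cast hm))))
    · refine Or.inl (Or.inl (Or.inr (mod_of_modEq (by omega) (hm.trans ?_))))
      rw [Int.modEq_iff_dvd]
      exact ⟨1, by omega⟩
  · have hm := hY χ h
    rcases hε with e1 | e1 <;> rw [e1] at hm
    · exact Or.inl (Or.inr (mod_of_modEq helt (by simpa using hm)))
    · refine Or.inr (mod_of_modEq (by omega) (hm.trans ?_))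
      rw [Int.modEq_iff_dvd]
      exact ⟨1, by omega⟩

theorem false_of_checkDegree [Fintype G] (hG : ¬ IsMulCommutative G) {p q r : ℕ} [Fact p.Prime]
    (hq : q.Prime) (hqp : q ≠ p) (hr : r.Prime) (hp2 : p ≠ 2) (hsq : ¬ p * p ∣ Nat.card G)
    (P : Sylow p G) (hP : Nat.card (P : Subgroup G) = p) {e : ℕ}
    (he : (centralizer ((P : Subgroup G) : Set G)).relIndex
      (normalizer ((P : Subgroup G) : Set G)) = e) (hsmall : Nat.card G < 6400) {v : G}
    (hv : v ∈ centralizer ((P : Subgroup G) : Set G)) (hvq : orderOf v = q)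
    (hchk : checkDegree (Nat.card G) p r e (if q = 2 then 2 * p else p) = true) : False := by
  have hp : p.Prime := Fact.out
  obtain ⟨M, hM⟩ := CfsgLib.ZStar.exists_isPModular hp
  haveI := hM.2.1.isPrime
  obtain ⟨y0, hy0⟩ := exists_prime_orderOf_dvd_card' (G := (P : Subgroup G)) p (by rw [hP])
  have hy : orderOf (y0 : G) = p := by rw [Subgroup.orderOf_coe, hy0]
  obtain ⟨χ, hB, h1, hd80, hok⟩ := exists_degOK hG hr hp2 hsq P hP hM hy y0.2 he hsmall
  simp only [checkDegree, List.all_eq_true, List.mem_range, Bool.or_eq_true, Bool.not_eq_true',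
    decide_eq_true_eq] at hchk
  have hlt : charDegree (χ : G → ℂ) < if q = 2 then 2 * p else p := by
    rcases hchk _ hd80 with h | h
    · rw [hok] at h; exact absurd h (by simp)
    · exact h
  have hvy : v ∈ centralizer ({(y0 : G)} : Set G) :=
    mem_centralizer_singleton_iff.2 ((mem_centralizer_iff.1 hv) _ y0.2).symm
  have hvp : ¬ p ∣ orderOf v := by
    rw [hvq]
    exact fun h => hqp ((Nat.prime_dvd_prime_iff_eq hp hq).1 h).symm
  have hv1 : v ≠ 1 := fun e0 => by rw [e0, orderOf_one] at hvq; exact hq.ne_one hvq.symm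
  have hval : ∀ i, i < p → i ≠ 0 →
      (χ : G → ℂ) ((y0 : G) ^ i * v) = (χ : G → ℂ) ((y0 : G) ^ i) := fun i hi hi0 =>
    ThreePrimeOrder.apply_pow_mul_eq hp hsq hM hB hy hvy hvp hi hi0
  by_cases h2 : q = 2
  · subst h2
    simp only [if_true] at hlt
    have hu2 : v * v = 1 := by rw [← pow_two, ← hvq, pow_orderOf_eq_one]
    obtain ⟨k, hk⟩ := SelfCentDegree.exists_int_of_sq_eq_one χ hu2
    have h2p := ThreePrimeOrder.two_p_dvd_degree_sub hp hp2 hy hvq
      (mem_centralizer_singleton_iff.1 hvy).symm hk hval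
    have h4 := ThreePrimeOrder.four_dvd_degree_sub (ThreePrimeOrder.perfect_of_nc hG) χ hu2 hk
    have hle : |k| ≤ (charDegree (χ : G → ℂ) : ℤ) := by
      have h := IsChar.norm_le (IsIrr.isCharacter χ.2) v
      rw [hk, apply_one_eq_charDegree, Complex.norm_intCast, Complex.norm_natCast] at h
      exact_mod_cast h
    obtain ⟨hle1, hle2⟩ := abs_le.1 hle
    have h4p : (4 * p : ℤ) ∣ (charDegree (χ : G → ℂ) : ℤ) - k := by
      obtain ⟨j, hj⟩ := h2p
      obtain ⟨i, hi⟩ := h4
      have hodd : Odd p := hp.odd_of_ne_two hp2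
      obtain ⟨a, ha⟩ := hodd
      have h2j : (2 : ℤ) ∣ j := by
        have hj2 : (2 : ℤ) ∣ (p : ℤ) * j := ⟨i, by linarith⟩
        refine (Int.Prime.dvd_mul' Nat.prime_two hj2).resolve_left ?_
        push_cast
        omega
      obtain ⟨j', rfl⟩ := h2j
      exact ⟨j', by linarith⟩
    have h0 := Int.eq_zero_of_dvd_of_nonneg_of_lt (by omega) (by omega) h4p
    exact hv1 (ThreePrimeOrder.eq_one_of_apply_eq h1 (by
      rw [hk, apply_one_eq_charDegree, show k = (charDegree (χ : G → ℂ) : ℤ) by omega,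
        Int.cast_natCast]))
  · rw [if_neg h2] at hlt
    exact hv1 (ThreePrimeOrder.eq_one_of_apply_eq h1 (ThreePrimeOrder.apply_eq_of_deg_lt χ hp
      (orderOf_dvd_iff_pow_eq_one.1 (dvd_of_eq hy)) hlt hval))

theorem false_of_noDegree [Fintype G] (hG : ¬ IsMulCommutative G) {p r : ℕ} [Fact p.Prime]
    (hr : r.Prime) (hp2 : p ≠ 2) (hsq : ¬ p * p ∣ Nat.card G)
    (P : Sylow p G) (hP : Nat.card (P : Subgroup G) = p) {e : ℕ}
    (he : (centralizer ((P : Subgroup G) : Set G)).relIndex
      (normalizer ((P : Subgroup G) : Set G)) = e) (hsmall : Nat.card G < 6400)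
    (hchk : checkDegree (Nat.card G) p r e 0 = true) : False := by
  obtain ⟨M, hM⟩ := CfsgLib.ZStar.exists_isPModular (Fact.out : p.Prime)
  haveI := hM.2.1.isPrime
  obtain ⟨y0, hy0⟩ := exists_prime_orderOf_dvd_card' (G := (P : Subgroup G)) p (by rw [hP])
  obtain ⟨χ, -, -, hd80, hok⟩ :=
    exists_degOK hG hr hp2 hsq P hP hM (by rw [Subgroup.orderOf_coe, hy0]) y0.2 he hsmall
  simp only [checkDegree, List.all_eq_true, List.mem_range, Bool.or_eq_true, Bool.not_eq_true',
    decide_eq_true_eq] at hchk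
  rcases hchk _ hd80 with h | h
  · rw [hok] at h; simp at h
  · omega

theorem false_of_checkDihedral {p : ℕ} [Fact p.Prime] (hp5 : 5 ≤ p) (P : Sylow p G)
    (hP : Nat.card (P : Subgroup G) = p) (hne : ¬ IsPGroup p G)
    (hN : Nat.card (normalizer ((P : Subgroup G) : Set G)) = 2 * p)
    (hchk : checkDihedral (Nat.card G) p = true) : False := by
  obtain ⟨x, v, u, -, hx1, hx2, hd1, hd2, hm, heq⟩ :=
    exists_degree_of_card_normalizer_two_mul hp5 P hP hne hN
  have hn : 0 < Nat.card G := Nat.card_pos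
  have hc : 0 < Nat.card (centralizer ({u} : Set G)) := Nat.card_pos
  generalize Nat.card (centralizer ({u} : Set G)) = c at heq hc
  generalize hnG : Nat.card G = n at heq hd1 hd2 hn hchk
  simp only [checkDihedral, List.all_eq_true, List.mem_range, Bool.or_eq_true, Bool.and_eq_true,
    decide_eq_true_eq, bne_iff_ne] at hchk
  set d := x.natAbs with hd
  have hdn : d ≤ n := Nat.le_of_dvd hn hd1
  have hx0 : x ≠ 0 := fun e => by
    rw [hd, e, Int.natAbs_zero, zero_dvd_iff] at hd1
    omega
  have hd2' : ¬ d < 2 := by omega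
  have hnd : ¬ n % d ≠ 0 := not_not_intro (Nat.mod_eq_zero_of_dvd hd1)
  rcases hchk d (by omega) with (h | h) | ⟨hA, hB⟩
  · exact hd2' h
  · exact hnd h
  obtain ⟨j, hj⟩ := hm
  -- a square
  have key : ∀ X : ℕ, 0 < X → (X : ℤ) = x * (x + 1) →
      Nat.sqrt (n * p * X) * Nat.sqrt (n * p * X) = n * p * X := by
    intro X hX0 hX
    rw [← hX] at heq
    set w := (x - v).natAbs with hw
    have heq2 : (p * c * X) ^ 2 = n * p * X * w ^ 2 := by
      have h1 : ((((p * c * X) ^ 2 : ℕ)) : ℤ) = (((n * p * X * w ^ 2 : ℕ)) : ℤ) := by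
        push_cast
        rw [hw, Int.natAbs_sq]
        linear_combination (p : ℤ) * X * heq
      exact_mod_cast h1
    have hw0 : w ≠ 0 := by
      intro e
      rw [e] at heq2
      have : 0 < (p * c * X) ^ 2 := pow_pos (Nat.mul_pos (Nat.mul_pos (by omega) hc) hX0) 2
      simp at heq2
      omega
    obtain ⟨s, hs⟩ : w ∣ p * c * X :=
      (Nat.pow_dvd_pow_iff two_ne_zero).1 ⟨n * p * X, by rw [heq2]; ring⟩
    rw [hs, mul_pow, mul_comm (n * p * X)] at heq2
    have := Nat.eq_of_mul_eq_mul_left (pow_pos (Nat.pos_of_ne_zero hw0) 2) heq2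
    rw [← this, Nat.sqrt_eq', pow_two]
  rcases Int.natAbs_eq x with hxd | hxd <;> rw [← hd] at hxd
  · rcases hA with (h | h) | h
    · refine h (mod_of_modEq (by omega) ?_)
      rw [Int.modEq_iff_dvd]
      exact ⟨-j, by push_cast; linear_combination -hj + hxd⟩
    · exact h (Nat.mod_eq_zero_of_dvd (by
        rwa [show d + 1 = (x + 1).natAbs by omega]))
    · exact h (key _ (Nat.mul_pos (by omega) (by omega)) (by
        push_cast; rw [hxd]))
  · rcases hB with (h | h) | h
    · refine h (mod_of_modEq (by omega) ?_)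
      rw [Int.modEq_iff_dvd]
      exact ⟨j + 1, by
        rw [Nat.cast_sub (by omega), Nat.cast_one]
        linear_combination hj - hxd⟩
    · exact h (Nat.mod_eq_zero_of_dvd (by
        rwa [show d - 1 = (x + 1).natAbs by omega]))
    · exact h (key _ (Nat.mul_pos (by omega) (by omega)) (by
        rw [Nat.cast_mul, Nat.cast_sub (by omega), Nat.cast_one]
        rw [hxd]; ring))

/-- One possible Sylow number is excluded by the test. -/
theorem false_of_killNumber (hG : ¬ IsMulCommutative G) {p m k : ℕ} [Fact p.Prime] (hp5 : 5 ≤ p)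
    (hnm : Nat.card G = p * m) (hm' : ¬ p ∣ m) (hm1 : m ≠ 1) (hsmall : Nat.card G < 6400)
    (hkdef : Nat.card (Sylow p G) = k) (hk : killNumber (Nat.card G) p m k = true) : False := by
  have hp : p.Prime := Fact.out
  haveI := Fintype.ofFinite G
  have he' : Nat.card G = p ^ 1 * m := by rw [hnm, pow_one]
  have hk1 : k ≠ 1 := by
    intro e
    obtain ⟨q, hq, hqm⟩ := Nat.exists_prime_and_dvd hm1
    exact (card_sylow_mem he' one_ne_zero hq (fun e' => hm' (e' ▸ hqm)) hqm).2.2 (hkdef.trans e)
  have hsq : ¬ p * p ∣ Nat.card G := fun hd => hm' (by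
    rw [hnm] at hd
    exact (Nat.mul_dvd_mul_iff_left hp.pos).1 hd)
  have hall : ∀ R : Sylow p G, Nat.card (R : Subgroup G) = p := fun R => by
    rw [sylow_card_eq R he' hm', pow_one]
  obtain ⟨P⟩ := (inferInstance : Nonempty (Sylow p G))
  have hkm : k ∣ m := hkdef ▸ card_sylow_dvd_of_card_eq he'
  have hk0 : 0 < k := hkdef ▸ Nat.card_pos
  have hne : ¬ IsPGroup p G := by
    obtain ⟨q, hq, hqm⟩ := Nat.exists_prime_and_dvd hm1
    exact not_isPGroup_of_dvd hq (fun e => hm' (e ▸ hqm))
      (by rw [hnm]; exact dvd_mul_of_dvd_right hqm p)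
  have hN : Nat.card (normalizer ((P : Subgroup G) : Set G)) = p * (m / k) := by
    have := card_normalizer_mul_card_sylow P
    rw [hkdef, hnm] at this
    refine Nat.eq_of_mul_eq_mul_right hk0 ?_
    rw [this, mul_assoc, Nat.div_mul_cancel hkm]
  obtain ⟨e, hee, hep, he1, hC⟩ := TwoGroups.SmallOrders.exists_card_centralizer P (hall P) hne hN
  simp only [killNumber, Bool.or_eq_true, Bool.and_eq_true, beq_iff_eq, bne_iff_ne,
    List.all_eq_true, List.mem_range, decide_eq_true_eq] at hk
  have hp2 : p ≠ 2 := by omega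
  rcases hk with ⟨hkp, hdiv⟩ | hk
  · refine hdiv (Nat.mod_eq_zero_of_dvd ?_)
    refine TwoGroups.SmallOrders.two_mul_dvd_of_card_sylow_eq_succ hG hp2 (e := m / k) ?_
      (hkdef.trans hkp)
    rw [hnm, ← hkp, mul_comm k p, mul_assoc, Nat.mul_div_cancel' hkm]
  have he0 : 0 < e := Nat.pos_of_dvd_of_pos hep (by omega)
  have helt : e < p := by
    have := Nat.le_of_dvd (by omega) hep
    omega
  obtain ⟨c, hc⟩ := hee
  have hcc : Nat.card (centralizer ((P : Subgroup G) : Set G)) = p * c := by
    refine Nat.eq_of_mul_eq_mul_right he0 ?_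
    rw [hC, hc]; ring
  have hrel : (centralizer ((P : Subgroup G) : Set G)).relIndex
      (normalizer ((P : Subgroup G) : Set G)) = e := by
    have h0 := index_mul_card ((centralizer ((P : Subgroup G) : Set G)).subgroupOf
      (normalizer ((P : Subgroup G) : Set G)))
    rw [Nat.card_congr (subgroupOfEquivOfLe (centralizer_le_normalizer _)).toEquiv, hN, ← hC,
      mul_comm _ e] at h0
    exact Nat.eq_of_mul_eq_mul_right Nat.card_pos h0
  rcases hk e helt with ((h0 | h0) | h0) | hcent
  · omega
  · exact h0 (Nat.mod_eq_zero_of_dvd hep)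
  · exact h0 (Nat.mod_eq_zero_of_dvd ⟨c, hc⟩)
  rw [hc, Nat.mul_div_cancel_left _ he0] at hcent
  simp only [killCentralizer, Bool.or_eq_true, Bool.and_eq_true, beq_iff_eq, bne_iff_ne,
    List.any_eq_true] at hcent
  rcases hcent with (⟨q, -, ⟨⟨hqB, hqc⟩, hqp⟩, hq'⟩ | ⟨r, -, hrB, hr'⟩) | ⟨⟨he2, hc1⟩, hdih⟩
  · have hq := prime_of_primeB hqB
    haveI := Fact.mk hq
    obtain ⟨z, hz⟩ := exists_prime_orderOf_dvd_card' (G := centralizer ((P : Subgroup G) : Set G))
      q (by rw [hcc]; exact dvd_mul_of_dvd_right (Nat.dvd_of_mod_eq_zero hqc) p)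
    have hz' : orderOf (z : G) = q := by rw [Subgroup.orderOf_coe, hz]
    rcases hq' with hF | ⟨r, -, hrB, hr'⟩
    · exact false_of_checkFixed hG hq P hall hkdef hk1 z.2 hz' hF
    · exact false_of_checkDegree hG hq hqp (prime_of_primeB hrB) hp2 hsq P (hall P) hrel hsmall
        z.2 hz' hr'
  · exact false_of_noDegree hG (prime_of_primeB hrB) hp2 hsq P (hall P) hrel hsmall hr'
  · refine false_of_checkDihedral hp5 P (hall P) hne ?_ hdih
    rw [hN, hc, he2, hc1]; ring

/-- A prime with no possible Sylow number. -/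
theorem false_of_killPrime (hG : ¬ IsMulCommutative G) {n p : ℕ} (hn : Nat.card G = n)
    (h : killPrime n p = true) : False := by
  subst hn
  simp only [killPrime, Bool.and_eq_true, Bool.or_eq_true, beq_iff_eq, bne_iff_ne,
    List.isEmpty_iff, decide_eq_true_eq, List.all_eq_true] at h
  obtain ⟨⟨⟨⟨⟨hpB, he⟩, ha⟩, hm⟩, hm1⟩, h'⟩ := h
  have hp := prime_of_primeB hpB
  haveI := Fact.mk hp
  set a := (TwoGroups.SmallOrders.strip p 13 (Nat.card G)).1
  set m := (TwoGroups.SmallOrders.strip p 13 (Nat.card G)).2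
  have hm' : ¬ p ∣ m := fun hd => hm (Nat.mod_eq_zero_of_dvd hd)
  have hmem := TwoGroups.SmallOrders.card_sylow_mem_cands hG he.symm ha hm' hm1
  rcases h' with h' | ⟨⟨⟨hp5, ha1⟩, hsmall⟩, hkill⟩
  · rw [h'] at hmem; simp at hmem
  have hnm : Nat.card G = p * m := by rw [← he, ha1, pow_one]
  exact false_of_killNumber hG hp5 hnm hm' hm1 hsmall rfl (hkill _ hmem)

end CfsgLib.Perm.SimpleOrders
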