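import Cfsg.Agent.Lib.Perm.SimpleOrders.Checker
import Cfsg.Agent.Lib.Perm.SimpleOrders.SquareSylow
import Cfsg.Agent.Lib.Perm.FewSylowTable
import Cfsg.Agent.Lib.Classical.SmallIso
import Cfsg.Agent.S0992
import Cfsg.Agent.S0998
import Cfsg.Agent.S0999
import Cfsg.Agent.S1001
import Cfsg.Agent.S1010

/-!
# Orders between 1093 and 3640: the cases settled by quoted theorems and pinched elements
-/

set_option autoImplicit false

namespace CfsgLib.Perm.SimpleOrders

open Cfsg CfsgLib.Char CfsgLib.Blocks Subgroup CfsgLib.Perm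

variable {G : Type*} [Group G] [Finite G] [IsSimpleGroup G]

omit [Finite G] [IsSimpleGroup G] in
theorem not_isCyclic_of_nc (hG : ¬ IsMulCommutative G) : ¬ IsCyclic G := fun h => hG h.isMulCommutative

/-- Orders `p r q ^ b`. -/
theorem false_1344_2976 (hG : ¬ IsMulCommutative G)
    (h : Nat.card G = 1344 ∨ Nat.card G = 2976) : False := by
  classical
  obtain ⟨p, b, hp, hp2, hp3, hc⟩ : ∃ p b : ℕ, p.Prime ∧ p ≠ 2 ∧ p ≠ 3 ∧
      Nat.card G = 3 * p * 2 ^ b := by
    rcases h with h | h
    · exact ⟨7, 6, by norm_num, by norm_num, by norm_num, by rw [h]; norm_num⟩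
    · exact ⟨31, 5, by norm_num, by norm_num, by norm_num, by rw [h]; norm_num⟩
  rcases Cfsg.Agent.S0998.result (not_isCyclic_of_nc hG) 3 2 p b Nat.prime_three Nat.prime_two hp
      (by norm_num) hp3.symm hp2.symm hc with ⟨F, _, _, hF, ⟨i⟩⟩ | ⟨F, _, _, hF, ⟨i⟩⟩ <;>
  · have hc' := CfsgLib.Classical.Two.card_PSL_two (F := F)
    rw [← Nat.card_congr i.toEquiv, hF] at hc'
    rcases h with h | h <;> rw [h] at hc' <;> norm_num at hc'

/-- Orders less than `13 ^ 3` divisible by `13`. -/
theorem false_1404_1716 (hG : ¬ IsMulCommutative G)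
    (h : Nat.card G = 1404 ∨ Nat.card G = 1716) : False := by
  classical
  rcases Cfsg.Agent.S0999.result (not_isCyclic_of_nc hG) 13 (by norm_num)
      (by rcases h with h | h <;> rw [h] <;> norm_num) (by rcases h with h | h <;> rw [h] <;> norm_num)
      with ⟨F, _, _, hF, -, ⟨i⟩⟩ | ⟨m, F, _, _, -, hm, -, -⟩
  · have hc' := CfsgLib.Classical.Two.card_PSL_two (F := F)
    rw [← Nat.card_congr i.toEquiv, hF] at hc'
    rcases h with h | h <;> rw [h] at hc' <;> norm_num at hc'
  · have h12 : 2 ^ m = 12 := by omega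
    have : m < 4 := (Nat.pow_lt_pow_iff_right (le_refl 2)).1 (by rw [h12]; norm_num)
    interval_cases m <;> simp at h12

/-- Twenty-one Sylow `5`-subgroups. -/
theorem false_2100 (hG : ¬ IsMulCommutative G) (h : Nat.card G = 2100) : False := by
  haveI : Fact (Nat.Prime 5) := ⟨by norm_num⟩
  have hmem := TwoGroups.SmallOrders.card_sylow_mem_cands hG (p := 5) (a := 2) (m := 84)
    (by rw [h]; norm_num) (by norm_num) (by norm_num) (by norm_num)
  have hc : TwoGroups.SmallOrders.cands 5 2 84 = [21] := by decide +kernel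
  rw [hc, List.mem_singleton] at hmem
  exact Cfsg.Agent.S1010.result hmem

/-- The frame of a Sylow subgroup of prime order in a group of order `p 3^a 2^b`. -/
theorem exists_frame_three_two (hG : ¬ IsMulCommutative G) {p a b : ℕ} [Fact p.Prime]
    (hcard : Nat.card G = p * 3 ^ a * 2 ^ b) (hm : ¬ p ∣ 3 ^ a * 2 ^ b) :
    ∃ (P : Sylow p G) (v : G) (e t n : ℕ), FewSylow.Frame P v e t n := by
  have hp : p.Prime := Fact.out
  obtain ⟨P⟩ := (inferInstance : Nonempty (Sylow p G))
  have hP : Nat.card (P : Subgroup G) = p := by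
    rw [sylow_card_eq P (k := 1) (m := 3 ^ a * 2 ^ b) (by rw [hcard, pow_one, mul_assoc]) hm, pow_one]
  obtain ⟨x, hx⟩ := exists_prime_orderOf_dvd_card' (G := (P : Subgroup G)) p (by rw [hP])
  have hxo : orderOf (x : G) = p := by rw [Subgroup.orderOf_coe, hx]
  have hx1 : (x : G) ≠ 1 := fun e => hp.ne_one (by rw [← hxo, e, orderOf_one])
  have hC : centralizer ((P : Subgroup G) : Set G) = (P : Subgroup G) := by
    rw [← centralizer_eq_of_prime_card hp hP x.2 hx1,
      Cfsg.Agent.S1001.result p a b hp hcard x hxo, zpowers_eq_of_prime_card hp hP x.2 hx1]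
  obtain ⟨v, e, t, n, F⟩ := FewSylow.exists_frame P hP hC (ThreePrimeOrder.perfect_of_nc hG)
  exact ⟨P, v, e, t, n, F⟩

theorem false_2880_3240 (hG : ¬ IsMulCommutative G)
    (h : Nat.card G = 2880 ∨ Nat.card G = 3240) : False := by
  haveI : Fact (Nat.Prime 5) := ⟨by norm_num⟩
  obtain ⟨a, b, hcard, hm⟩ : ∃ a b : ℕ, Nat.card G = 5 * 3 ^ a * 2 ^ b ∧ ¬ 5 ∣ 3 ^ a * 2 ^ b := by
    rcases h with h | h
    · exact ⟨2, 6, by rw [h]; norm_num, by norm_num⟩
    · exact ⟨4, 3, by rw [h]; norm_num, by norm_num⟩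
  obtain ⟨P, v, e, t, n, F⟩ := exists_frame_three_two hG hcard hm
  have he : e ∣ 4 := ⟨t, by have := F.et; omega⟩
  have he2 := F.two
  have hcG := F.cardG
  have he4 : e ≤ 4 := Nat.le_of_dvd (by norm_num) he
  interval_cases e <;> rcases h with h | h <;> omega

/-- A Klein Sylow `2`-subgroup has no element of order four. -/
theorem false_1620 (hG : ¬ IsMulCommutative G) (h : Nat.card G = 1620) : False := by
  haveI : Fact (Nat.Prime 5) := ⟨by norm_num⟩
  obtain ⟨P, v, e, t, n, F⟩ := exists_frame_three_two hG (p := 5) (a := 4) (b := 2)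
    (by rw [h]; norm_num) (by norm_num)
  have he : e ∣ 4 := ⟨t, by have := F.et; omega⟩
  have he2 := F.two
  have hcG := F.cardG
  have he4 : e ≤ 4 := Nat.le_of_dvd (by norm_num) he
  have he' : e = 4 := by interval_cases e <;> omega
  subst he'
  haveI : Fact (Nat.Prime 2) := ⟨Nat.prime_two⟩
  obtain ⟨T, hT⟩ := exists_mem_sylow_of_orderOf (p := 2) (k := 2) (g := v) F.ord
  have hK := (Cfsg.Agent.S0992.result hG (by rw [h]; exact ⟨810, rfl⟩)
    (by rw [h]; norm_num) T).1
  have h2 := hK.exponent_two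
  have := Monoid.order_dvd_exponent (⟨v, hT⟩ : (T : Subgroup G))
  rw [h2, Subgroup.orderOf_mk, F.ord] at this
  norm_num at this

/-- A pinched element whose centralizer has order `2 * 3 * 25` is impossible. -/
theorem Pinched.false_of_six [Fact (Nat.Prime 5)] {d : G} {R : Sylow 5 G} {i : ℕ}
    (P : Pinched 5 d R i 6 6) : False := by
  obtain ⟨t, ht, ht5, hle⟩ := exists_le_card_sylow_of_two_mul (p := 5) (a := 2) (r := 3)
    (by norm_num) (by norm_num) (P.card.trans (by norm_num))
  rw [P.count] at hle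
  have := Nat.le_of_dvd (by norm_num) ht
  omega

theorem false_1800_2400_2700 (hG : ¬ IsMulCommutative G)
    (h : Nat.card G = 1800 ∨ Nat.card G = 2400 ∨ Nat.card G = 2700) : False := by
  haveI : Fact (Nat.Prime 5) := ⟨by norm_num⟩
  obtain ⟨m, hm, hm5, hm1, hmod, hfac, hkey⟩ : ∃ m, Nat.card G = 5 ^ 2 * m ∧ ¬ 5 ∣ m ∧ m ≠ 1 ∧
      (∀ k ∈ TwoGroups.SmallOrders.cands 5 2 m, k % 25 ≠ 1) ∧
      (¬ 2 * Nat.card G ∣ Nat.factorial 9) ∧
      ∀ r < 11, ∀ s < 11, r ∣ m → s ∣ r → s % 5 = 1 → 1 < s → 10 ≤ m / r → r = 6 ∧ s = 6 := by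
    rcases h with h | h | h
    · exact ⟨72, by rw [h]; norm_num, by norm_num, by norm_num, by decide +kernel,
        by rw [h]; decide +kernel, by set_option synthInstance.maxSize 4000 in decide +kernel⟩
    · exact ⟨96, by rw [h]; norm_num, by norm_num, by norm_num, by decide +kernel,
        by rw [h]; decide +kernel, by set_option synthInstance.maxSize 4000 in decide +kernel⟩
    · exact ⟨108, by rw [h]; norm_num, by norm_num, by norm_num, by decide +kernel,
        by rw [h]; decide +kernel, by set_option synthInstance.maxSize 4000 in decide +kernel⟩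
  have hmem := TwoGroups.SmallOrders.card_sylow_mem_cands hG hm (by norm_num) hm5 hm1
  obtain ⟨d, R, i, r, s, P, hri⟩ := exists_pinched hG hm hm5 fun e =>
    hmod _ hmem (by simpa [Nat.ModEq] using e)
  have hi10 : 10 ≤ i := by
    by_contra hlt
    exact hfac (P.factorial.trans (Nat.factorial_dvd_factorial (show i ≤ 9 by omega)))
  have hm108 : m ≤ 108 := by rcases h with h | h | h <;> omega
  have hr0 : 0 < r := Nat.pos_of_ne_zero fun e => by rw [e, zero_mul] at hri; omega
  have hr11 : r < 11 := by nlinarith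
  have hs11 : s < 11 := lt_of_le_of_lt (Nat.le_of_dvd hr0 P.dvd) hr11
  obtain ⟨rfl, rfl⟩ := hkey r hr11 s hs11 ⟨i, hri.symm⟩ P.dvd P.modp P.one_lt (by
    rw [← hri, Nat.mul_div_cancel_left _ hr0]; exact hi10)
  exact P.false_of_six

theorem false_3528 (hG : ¬ IsMulCommutative G) (h : Nat.card G = 3528) : False := by
  haveI : Fact (Nat.Prime 7) := ⟨by norm_num⟩
  have hm : Nat.card G = 7 ^ 2 * 72 := by rw [h]; norm_num
  have hmem := TwoGroups.SmallOrders.card_sylow_mem_cands hG hm (by norm_num) (by norm_num)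
    (by norm_num)
  have hc : TwoGroups.SmallOrders.cands 7 2 72 = [36] := by decide +kernel
  rw [hc, List.mem_singleton] at hmem
  obtain ⟨d, R, i, r, s, P, hri⟩ := exists_pinched hG hm (by norm_num) (by
    rw [hmem]; decide)
  have hi14 : 14 ≤ i := by
    by_contra hlt
    have hf := P.factorial.trans (Nat.factorial_dvd_factorial (show i ≤ 13 by omega))
    rw [h] at hf
    revert hf; decide +kernel
  have hr0 : 0 < r := Nat.pos_of_ne_zero fun e => by rw [e, zero_mul] at hri; omega
  have hr6 : r < 6 := by nlinarith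
  have hs6 : s < 6 := lt_of_le_of_lt (Nat.le_of_dvd hr0 P.dvd) hr6
  have := P.modp
  have := P.one_lt
  omega

/-- With one other conjugate in `R`, transfer makes it the inverse of `d`. -/
theorem false_of_one_other (hG : ¬ IsMulCommutative G) {p : ℕ} [Fact p.Prime] {d : G}
    {R : Sylow p G} {i r s : ℕ} (P : Pinched p d R i r s)
    (hbound : ¬ 2 * Nat.card G ∣ (i / 2).factorial)
    (h1 : Nat.card (others d (R : Subgroup G)) = 1) : False := by
  obtain ⟨hsub, ⟨⟨w, hwc, hwR, hwd⟩⟩⟩ := Nat.card_eq_one_iff_unique.1 h1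
  have hab : IsMulCommutative (R : Subgroup G) :=
    IsPGroup.isMulCommutative_of_card_eq_prime_sq (P.card_sylow R)
  have huniq : ∀ x : G, IsConj d x → x ∈ (R : Subgroup G) → x = d ∨ x = w := by
    intro x hx hxR
    by_cases h : x = d
    · exact Or.inl h
    · exact Or.inr (congrArg Subtype.val (hsub.elim (⟨x, hx, hxR, h⟩ : others d (R : Subgroup G))
        ⟨w, hwc, hwR, hwd⟩))
  have hdw : d * w = 1 := by
    refine eq_one_of_central_in_sylow_normalizer hG R hab (mul_mem P.mem hwR) fun g hg => ?_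
    have hcomm : d * w = w * d :=
      congrArg Subtype.val (hab.is_comm.comm ⟨d, P.mem⟩ ⟨w, hwR⟩)
    have hm : ∀ x : G, IsConj d x → x ∈ (R : Subgroup G) → g * x * g⁻¹ = d ∨ g * x * g⁻¹ = w :=
      fun x hx hxR => huniq _ (hx.trans (isConj_iff.2 ⟨g, rfl⟩))
        ((mem_normalizer_iff.1 hg x).1 hxR)
    refine mul_inv_eq_iff_eq_mul.1 ?_
    rw [show g * (d * w) * g⁻¹ = g * d * g⁻¹ * (g * w * g⁻¹) by group]
    rcases hm d (IsConj.refl d) P.mem with a | a <;> rcases hm w hwc hwR with b | b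
    · exact absurd (mul_left_cancel (mul_right_cancel (b.trans a.symm))) hwd
    · rw [a, b]
    · rw [a, b, hcomm]
    · exact absurd (mul_left_cancel (mul_right_cancel (b.trans a.symm))) hwd
  obtain ⟨g, hg⟩ := isConj_iff.1 hwc
  refine hwd (hg ▸ eq_of_mem_zpowers hG P hbound ?_)
  rw [hg, eq_inv_of_mul_eq_one_right hdw]
  exact inv_mem (mem_zpowers d)

theorem false_3600 (hG : ¬ IsMulCommutative G) (h : Nat.card G = 3600) : False := by
  haveI : Fact (Nat.Prime 5) := ⟨by norm_num⟩
  have hm : Nat.card G = 5 ^ 2 * 144 := by rw [h]; norm_num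
  have hmem := TwoGroups.SmallOrders.card_sylow_mem_cands hG hm (by norm_num) (by norm_num)
    (by norm_num)
  have hc : TwoGroups.SmallOrders.cands 5 2 144 = [16, 36] := by decide +kernel
  rw [hc] at hmem
  obtain ⟨d, R, i, r, s, P, hri⟩ := exists_pinched hG hm (by norm_num) (by
    simp only [List.mem_cons, List.not_mem_nil, or_false] at hmem
    rcases hmem with e | e <;> rw [e] <;> decide)
  have hi10 : 10 ≤ i := by
    by_contra hlt
    have hf := P.factorial.trans (Nat.factorial_dvd_factorial (show i ≤ 9 by omega))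
    rw [h] at hf
    revert hf; decide +kernel
  have hr15 : r < 15 := by nlinarith
  have hr0 : 0 < r := Nat.pos_of_ne_zero fun e => by rw [e, zero_mul] at hri; omega
  have hs15 : s < 15 := lt_of_le_of_lt (Nat.le_of_dvd hr0 P.dvd) hr15
  have key : ∀ r < 15, ∀ s < 15, r ∣ 144 → s ∣ r → s % 5 = 1 → 1 < s →
      r = 6 ∧ s = 6 ∨ r = 12 ∧ s = 6 := by
    set_option synthInstance.maxSize 4000 in decide +kernel
  rcases key r hr15 s hs15 ⟨i, hri.symm⟩ P.dvd P.modp P.one_lt with ⟨rfl, rfl⟩ | ⟨rfl, rfl⟩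
  · exact P.false_of_six
  · have hi : i = 12 := by omega
    subst hi
    have hb : ¬ 2 * Nat.card G ∣ (12 / 2).factorial := by rw [h]; decide +kernel
    obtain ⟨e, hle, hF⟩ := card_fused hG P hb
    rw [e] at hle hF
    exact false_of_one_other hG P hb (by omega)

end CfsgLib.Perm.SimpleOrders
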